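import Mathlib.RingTheory.Flat.FaithfullyFlat.Algebra
import Mathlib.RingTheory.RingHom.Flat
import Mathlib.AlgebraicGeometry.Morphisms.Flat

/-!
# Cancelling a faithfully flat map
-/

set_option autoImplicit false
universe u

open CategoryTheory AlgebraicGeometry TensorProduct

namespace SweepSix

theorem flat_of_faithfullyFlat {A B C : Type u} [CommRing A] [CommRing B] [CommRing C] [Algebra A B]
    [Algebra B C] [Algebra A C] [IsScalarTower A B C] [Module.FaithfullyFlat B C] [Module.Flat A C] :
    Module.Flat A B := by
  rw [Module.Flat.iff_lTensor_preserves_injective_linearMap]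
  intro M N _ _ _ _ f hf
  have h1 : Function.Injective (LinearMap.lTensor C f) :=
    Module.Flat.lTensor_preserves_injective_linearMap f hf
  let g : B ⊗[A] M →ₗ[B] B ⊗[A] N := f.baseChange B
  suffices hg : Function.Injective (LinearMap.lTensor C g) by
    exact (Module.FaithfullyFlat.lTensor_injective_iff_injective B C g).mp hg
  have key : ∀ z, (AlgebraTensorModule.cancelBaseChange A B B C N) (LinearMap.lTensor C g z) =
      LinearMap.lTensor C f (AlgebraTensorModule.cancelBaseChange A B B C M z) := by
    intro z
    induction z using TensorProduct.induction_on with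
    | zero => simp
    | tmul c w =>
      induction w using TensorProduct.induction_on with
      | zero => simp
      | tmul b m => simp [g]
      | add x y hx hy =>
        rw [TensorProduct.tmul_add]
        simp only [map_add, hx, hy]
    | add x y hx hy => simp only [map_add, hx, hy]
  intro z w e
  apply (AlgebraTensorModule.cancelBaseChange A B B C M).injective
  apply h1
  rw [← key, ← key, e]

theorem flat_of_comp {A B C : Type u} [CommRing A] [CommRing B] [CommRing C] (f : A →+* B) (g : B →+* C)
    [IsLocalRing B] [IsLocalRing C] [IsLocalHom g] (hg : g.Flat) (h : (g.comp f).Flat) : f.Flat := by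
  algebraize [f, g, g.comp f]
  have : IsLocalHom (algebraMap B C) := ‹IsLocalHom g›
  have : Module.FaithfullyFlat B C := Module.FaithfullyFlat.of_flat_of_isLocalHom
  exact flat_of_faithfullyFlat (A := A) (B := B) (C := C)

theorem flat_stalkMap_comp_iff {X Y Z : Scheme.{u}} (f : X ⟶ Y) (g : Y ⟶ Z) (x : X)
    (hf : (f.stalkMap x).hom.Flat) :
    ((f ≫ g).stalkMap x).hom.Flat ↔ (g.stalkMap (f x)).hom.Flat := by
  rw [Scheme.Hom.stalkMap_comp]
  exact ⟨fun h => flat_of_comp (g.stalkMap (f x)).hom (f.stalkMap x).hom hf h, fun h => h.comp hf⟩

end SweepSix
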