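import Groth.Agent.SweepSix.MaxPts
import Mathlib

/-!
# Finite type points
-/

set_option autoImplicit false
universe u

open CategoryTheory CategoryTheory.Limits AlgebraicGeometry Topology

namespace SweepSix

theorem exists_forall_prime_eq_bot {A k : Type u} [CommRing A] [IsDomain A] [Field k] [Algebra A k]
    (hinj : Function.Injective (algebraMap A k)) [Algebra.FiniteType A k] :
    ∃ f : A, f ≠ 0 ∧ ∀ q : Ideal A, q.IsPrime → f ∉ q → q = ⊥ := by
  classical
  let K := FractionRing A
  have hnz : nonZeroDivisors A ≤ (nonZeroDivisors k).comap (algebraMap A k) := fun a ha =>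
    mem_nonZeroDivisors_of_ne_zero fun h =>
      nonZeroDivisors.ne_zero ha (hinj (h.trans (map_zero _).symm))
  have : FaithfulSMul A k := (faithfulSMul_iff_algebraMap_injective A k).2 hinj
  let := FractionRing.liftAlgebra A k
  have : IsScalarTower A K k := FractionRing.isScalarTower_liftAlgebra A k
  have : Algebra.FiniteType K k := Algebra.FiniteType.of_restrictScalars_finiteType A K k
  have : Module.Finite K k := finite_of_finite_type_of_isJacobsonRing K k
  obtain ⟨s, hs⟩ := (inferInstance : Algebra.FiniteType A k).out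
  have hm : ∀ x : k, ∃ m : nonZeroDivisors A, IsIntegral A (m • x) := fun x =>
    IsIntegral.exists_multiple_integral_of_isLocalization (nonZeroDivisors A) (Rₘ := K) x
      (IsIntegral.of_finite K x)
  choose m hm using hm
  let f : A := ∏ x ∈ s, (m x : A)
  have hf0 : f ≠ 0 := Finset.prod_ne_zero_iff.2 fun x _ => nonZeroDivisors.ne_zero (m x).2
  have hfx : ∀ x ∈ s, IsIntegral A (f • x) := fun x hx => by
    rw [show f = (∏ y ∈ s.erase x, (m y : A)) * (m x : A) from (Finset.prod_erase_mul _ _ hx).symm,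
      mul_smul]
    exact (hm x).smul _
  have hall : ∀ y : k, ∃ n : ℕ, IsIntegral A (f ^ n • y) := by
    intro y
    have hy : y ∈ Algebra.adjoin A (s : Set k) := hs ▸ Algebra.mem_top
    induction hy using Algebra.adjoin_induction with
    | mem x hx => exact ⟨1, by rw [pow_one]; exact hfx x hx⟩
    | algebraMap r => exact ⟨0, by rw [pow_zero, one_smul]; exact isIntegral_algebraMap⟩
    | add x y _ _ hx hy =>
      obtain ⟨a, ha⟩ := hx
      obtain ⟨b, hb⟩ := hy
      refine ⟨a + b, ?_⟩
      rw [smul_add]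
      refine IsIntegral.add ?_ ?_
      · rw [add_comm, pow_add, mul_smul]; exact ha.smul _
      · rw [pow_add, mul_smul]; exact hb.smul _
    | mul x y _ _ hx hy =>
      obtain ⟨a, ha⟩ := hx
      obtain ⟨b, hb⟩ := hy
      exact ⟨a + b, by rw [pow_add, ← smul_mul_smul_comm]; exact ha.mul hb⟩
  refine ⟨f, hf0, fun q hq hfq => ?_⟩
  by_contra hne
  obtain ⟨c, hc, hc0⟩ := Submodule.exists_mem_ne_zero_of_ne_bot hne
  obtain ⟨n, hn⟩ := hall (algebraMap A k c)⁻¹
  let C := integralClosure A k
  let b : C := ⟨_, hn⟩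
  have hcb : algebraMap A C (f ^ n) = algebraMap A C c * b := by
    apply Subtype.ext
    show algebraMap A k (f ^ n) = algebraMap A k c * (f ^ n • (algebraMap A k c)⁻¹)
    rw [Algebra.smul_def, mul_left_comm, mul_inv_cancel₀, mul_one]
    exact fun h => hc0 (hinj (h.trans (map_zero _).symm))
  have : Algebra.IsIntegral A C := inferInstance
  obtain ⟨Q, -, hQ, hQc⟩ := Ideal.exists_ideal_over_prime_of_isIntegral q (⊥ : Ideal C) (by
    intro a ha
    have ha' : algebraMap A k a = 0 := congrArg Subtype.val (Ideal.mem_bot.1 ha)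
    rw [hinj (ha'.trans (map_zero _).symm)]
    exact q.zero_mem)
  have hfQ : f ^ n ∈ Q.comap (algebraMap A C) := by
    rw [Ideal.mem_comap, hcb]
    exact Q.mul_mem_right _ (hQc.symm ▸ hc : c ∈ Q.comap (algebraMap A C))
  rw [hQc] at hfQ
  exact hfq (hq.mem_of_pow_mem n hfQ)

theorem exists_basicOpen_inter_closure {R k : Type u} [CommRing R] [Field k] [Algebra R k]
    [Algebra.FiniteType R k] :
    ∃ g : R, g ∉ RingHom.ker (algebraMap R k) ∧
      ∀ q : Ideal R, q.IsPrime → RingHom.ker (algebraMap R k) ≤ q → g ∉ q →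
        q = RingHom.ker (algebraMap R k) := by
  set P := RingHom.ker (algebraMap R k) with hP
  have : P.IsPrime := RingHom.ker_isPrime _
  let := (RingHom.kerLift (algebraMap R k)).toAlgebra
  have : IsScalarTower R (R ⧸ P) k := .of_algebraMap_eq fun r => rfl
  have : Algebra.FiniteType (R ⧸ P) k := Algebra.FiniteType.of_restrictScalars_finiteType R _ k
  obtain ⟨f, hf0, hf⟩ := exists_forall_prime_eq_bot (A := R ⧸ P) (k := k) (RingHom.kerLift_injective _)
  obtain ⟨g, rfl⟩ := Ideal.Quotient.mk_surjective f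
  refine ⟨g, fun hg => hf0 (Ideal.Quotient.eq_zero_iff_mem.2 hg), fun q hq hPq hgq => ?_⟩
  have hq' : (q.map (Ideal.Quotient.mk P)).IsPrime :=
    Ideal.map_isPrime_of_surjective Ideal.Quotient.mk_surjective (by rwa [Ideal.mk_ker])
  have hbot := hf _ hq' fun h => hgq (by
    rwa [Ideal.mem_quotient_iff_mem hPq] at h)
  refine le_antisymm ?_ hPq
  intro x hx
  have : Ideal.Quotient.mk P x ∈ q.map (Ideal.Quotient.mk P) := Ideal.mem_map_of_mem _ hx
  rw [hbot, Ideal.mem_bot, Ideal.Quotient.eq_zero_iff_mem] at this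
  exact this

theorem exists_affine_isClosed {S : Scheme.{u}} {k : Type u} [Field k] (f : Spec (CommRingCat.of k) ⟶ S)
    [LocallyOfFiniteType f] :
    ∃ U : S.Opens, IsAffineOpen U ∧
      ∃ hu : f (IsLocalRing.closedPoint k) ∈ U, IsClosed ({⟨_, hu⟩} : Set U) := by
  set u := f (IsLocalRing.closedPoint k)
  obtain ⟨U₀, hU₀, hu₀, -⟩ := exists_isAffineOpen_mem_and_subset (X := S) (x := u) (U := ⊤) trivial
  have : Subsingleton ↥(Spec (CommRingCat.of k)) := inferInstanceAs (Subsingleton (PrimeSpectrum k))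
  let f₀ : Spec (CommRingCat.of k) ⟶ Spec Γ(S, U₀) := IsOpenImmersion.lift hU₀.fromSpec f (by
    rintro _ ⟨p, rfl⟩
    rw [hU₀.range_fromSpec, Subsingleton.elim p (IsLocalRing.closedPoint k)]
    exact hu₀)
  have hf₀ : f₀ ≫ hU₀.fromSpec = f := IsOpenImmersion.lift_fac _ _ _
  have : LocallyOfFiniteType (f₀ ≫ hU₀.fromSpec) := hf₀.symm ▸ inferInstance
  have hlft : LocallyOfFiniteType f₀ := locallyOfFiniteType_of_comp f₀ hU₀.fromSpec
  obtain ⟨φ, hφ⟩ := Spec.map_surjective f₀
  rw [← hφ] at hlft
  algebraize [φ.hom]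
  have : Algebra.FiniteType Γ(S, U₀) k :=
    (HasRingHomProperty.Spec_iff (P := @LocallyOfFiniteType)).1 hlft
  obtain ⟨g, hg, huniq⟩ := exists_basicOpen_inter_closure (R := Γ(S, U₀)) (k := k)
  set p := f₀ (IsLocalRing.closedPoint k)
  have hp : p.asIdeal = RingHom.ker (algebraMap Γ(S, U₀) k) := by
    have : p = PrimeSpectrum.comap φ.hom (IsLocalRing.closedPoint k) := by
      rw [show p = f₀ (IsLocalRing.closedPoint k) from rfl, ← hφ]; rfl
    rw [this]
    refine Ideal.ext fun x => ?_
    show φ.hom x ∈ IsLocalRing.maximalIdeal k ↔ φ.hom x = 0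
    rw [IsLocalRing.mem_maximalIdeal, mem_nonunits_iff, isUnit_iff_ne_zero, not_not]
  have hup : u = hU₀.fromSpec p := by
    rw [← Scheme.Hom.comp_apply, hf₀]
  refine ⟨S.basicOpen g, hU₀.basicOpen g, ?_, ?_⟩
  · rw [hup, ← hU₀.fromSpec_image_basicOpen]
    exact ⟨p, show g ∉ p.asIdeal by rw [hp]; exact hg, rfl⟩
  · rw [← isOpen_compl_iff, isOpen_iff_forall_mem_open]
    rintro ⟨v, hv⟩ hne
    rw [← hU₀.fromSpec_image_basicOpen] at hv
    obtain ⟨q, hq, rfl⟩ := hv
    replace hq : g ∉ q.asIdeal := hq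
    have hnle : ¬ p.asIdeal ≤ q.asIdeal := fun hle => by
      refine hne (Subtype.ext ?_)
      show hU₀.fromSpec q = u
      rw [hup, show q = p from PrimeSpectrum.ext
        ((huniq q.asIdeal q.2 (hp ▸ hle) hq).trans hp.symm)]
    obtain ⟨a, hap, haq⟩ := Set.not_subset.1 hnle
    refine ⟨Subtype.val ⁻¹' (S.basicOpen a : Set S), ?_, (S.basicOpen a).2.preimage continuous_subtype_val, ?_⟩
    · rintro w hw rfl
      have hw' : u ∈ S.basicOpen a := hw
      rw [hup, ← hU₀.fromSpec_image_basicOpen] at hw'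
      obtain ⟨p', hp', he⟩ := hw'
      rw [hU₀.fromSpec.isOpenEmbedding.injective he] at hp'
      exact hp' hap
    · show hU₀.fromSpec q ∈ S.basicOpen a
      rw [← hU₀.fromSpec_image_basicOpen]
      exact ⟨q, haq, rfl⟩

theorem isClosedImmersion_into_open {S : Scheme.{u}} {U : S.Opens} {s : S} {hs : s ∈ U}
    (h : IsClosed ({⟨s, hs⟩} : Set U)) : LocallyOfFiniteType (S.fromSpecResidueField s) := by
  let i : Spec (S.residueField s) ⟶ U := IsOpenImmersion.lift U.ι (S.fromSpecResidueField s) (by
    rw [Scheme.range_fromSpecResidueField, Scheme.Opens.range_ι]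
    exact Set.singleton_subset_iff.2 hs)
  have hi : i ≫ U.ι = S.fromSpecResidueField s := IsOpenImmersion.lift_fac _ _ _
  have : IsPreimmersion (i ≫ U.ι) := hi ▸ inferInstance
  have : IsPreimmersion i := IsPreimmersion.of_comp i U.ι
  have hr : Set.range i = {⟨s, hs⟩} := by
    ext z
    constructor
    · rintro ⟨w, rfl⟩
      refine Subtype.ext ?_
      show U.ι (i w) = s
      rw [← Scheme.Hom.comp_apply, hi, Scheme.fromSpecResidueField_apply]
    · rintro rfl
      refine ⟨IsLocalRing.closedPoint _, Subtype.ext ?_⟩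
      show U.ι (i _) = s
      rw [← Scheme.Hom.comp_apply, hi, Scheme.fromSpecResidueField_apply]
  have : IsClosedImmersion i := .of_isPreimmersion i (hr ▸ h)
  rw [← hi]
  infer_instance

theorem mem_iff {S : Scheme.{u}} (s : S) :
    LocallyOfFiniteType (S.fromSpecResidueField s) ↔
      ∃ U : S.Opens, IsAffineOpen U ∧ ∃ hs : s ∈ U, IsClosed ({⟨s, hs⟩} : Set U) := by
  refine ⟨fun h => ?_, fun ⟨U, _, hs, h⟩ => isClosedImmersion_into_open h⟩
  have key : ∀ t, (∃ U : S.Opens, IsAffineOpen U ∧ ∃ hu : t ∈ U, IsClosed ({⟨t, hu⟩} : Set U)) →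
      t = s → ∃ U : S.Opens, IsAffineOpen U ∧ ∃ hs : s ∈ U, IsClosed ({⟨s, hs⟩} : Set U) := by
    intro t ht e; subst e; exact ht
  exact key _ (exists_affine_isClosed (k := S.residueField s) (S.fromSpecResidueField s))
    (Scheme.fromSpecResidueField_apply s _)

theorem nonempty_inter {S : Scheme.{u}} {Z : Set S} (hZ : IsLocallyClosed Z) (hne : Z.Nonempty) :
    ∃ s ∈ Z, LocallyOfFiniteType (S.fromSpecResidueField s) := by
  obtain ⟨O, C, hO, hC, rfl⟩ := hZ
  obtain ⟨z, hzO, hzC⟩ := hne
  obtain ⟨U, hU, hzU, hUO⟩ := exists_isAffineOpen_mem_and_subset (X := S) (x := z)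
    (U := ⟨O, hO⟩) hzO
  have : CompactSpace ↥U := isCompact_iff_compactSpace.1 hU.isCompact
  obtain ⟨⟨w, hwU⟩, hwC, hw⟩ := IsClosed.exists_closed_singleton (X := ↥U) (S := Subtype.val ⁻¹' C) (hC.preimage continuous_subtype_val)
    ⟨⟨z, hzU⟩, hzC⟩
  exact ⟨w, ⟨hUO hwU, hwC⟩, (mem_iff w).2 ⟨U, hU, hwU, hw⟩⟩

theorem image_mem {T S : Scheme.{u}} (f : T ⟶ S) [LocallyOfFiniteType f] {t : T}
    (ht : LocallyOfFiniteType (T.fromSpecResidueField t)) :
    LocallyOfFiniteType (S.fromSpecResidueField (f t)) := by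
  obtain ⟨U, hU, hu, hc⟩ := exists_affine_isClosed (k := T.residueField t) (T.fromSpecResidueField t ≫ f)
  have he : (T.fromSpecResidueField t ≫ f) (IsLocalRing.closedPoint (T.residueField t)) = f t := by
    rw [Scheme.Hom.comp_apply, Scheme.fromSpecResidueField_apply]
  exact he ▸ isClosedImmersion_into_open hc

theorem residueFieldMap_finite {S : Scheme.{u}} {k : Type u} [Field k] (f : Spec (CommRingCat.of k) ⟶ S)
    [LocallyOfFiniteType f] : (f.residueFieldMap (IsLocalRing.closedPoint k)).hom.Finite := by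
  have h := f.SpecMap_residueFieldMap_fromSpecResidueField (IsLocalRing.closedPoint k)
  have : LocallyOfFiniteType ((Spec (CommRingCat.of k)).fromSpecResidueField (IsLocalRing.closedPoint k)) := by
    have : IsClosedImmersion ((Spec (CommRingCat.of k)).fromSpecResidueField (IsLocalRing.closedPoint k)) :=
      isClosed_singleton_iff_isClosedImmersion.1 (IsLocalRing.isClosed_singleton_closedPoint k)
    infer_instance
  have : LocallyOfFiniteType
      (Spec.map (f.residueFieldMap (IsLocalRing.closedPoint k)) ≫ S.fromSpecResidueField _) :=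
    h ▸ inferInstance
  have h2 : LocallyOfFiniteType (Spec.map (f.residueFieldMap (IsLocalRing.closedPoint k))) :=
    locallyOfFiniteType_of_comp _ (S.fromSpecResidueField (f (IsLocalRing.closedPoint k)))
  have h3 := (HasRingHomProperty.Spec_iff (P := @LocallyOfFiniteType)).1 h2
  algebraize [(f.residueFieldMap (IsLocalRing.closedPoint k)).hom]
  exact finite_of_finite_type_of_isJacobsonRing _ _

theorem locallyOfFiniteType_of_point {S : Scheme.{u}} {k : Type u} [Field k]
    (f : Spec (CommRingCat.of k) ⟶ S)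
    (h : LocallyOfFiniteType (S.fromSpecResidueField (f (IsLocalRing.closedPoint k))))
    (hf : (f.residueFieldMap (IsLocalRing.closedPoint k)).hom.Finite) : LocallyOfFiniteType f := by
  set x := IsLocalRing.closedPoint k
  have h1 : LocallyOfFiniteType ((Spec (CommRingCat.of k)).fromSpecResidueField x ≫ f) := by
    rw [← f.SpecMap_residueFieldMap_fromSpecResidueField]
    have : LocallyOfFiniteType (Spec.map (f.residueFieldMap x)) :=
      (HasRingHomProperty.Spec_iff (P := @LocallyOfFiniteType)).2 hf.finiteType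
    infer_instance
  have : IsClosedImmersion ((Spec (CommRingCat.of k)).fromSpecResidueField x) :=
    isClosed_singleton_iff_isClosedImmersion.1 (IsLocalRing.isClosed_singleton_closedPoint k)
  have : Subsingleton ↥(Spec (CommRingCat.of k)) := inferInstanceAs (Subsingleton (PrimeSpectrum k))
  have : Surjective ((Spec (CommRingCat.of k)).fromSpecResidueField x) :=
    ⟨fun z => ⟨IsLocalRing.closedPoint _, Subsingleton.elim _ _⟩⟩
  have : IsIso ((Spec (CommRingCat.of k)).fromSpecResidueField x) :=
    isIso_of_isClosedImmersion_of_surjective _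
  exact (MorphismProperty.cancel_left_of_respectsIso (P := @LocallyOfFiniteType) _ f).1 h1

theorem finiteType_of_artinian {R A : Type u} [CommRing R] [CommRing A] [IsArtinianRing A]
    [IsLocalRing A] [Algebra R A] [Algebra.FiniteType R (IsLocalRing.ResidueField A)] :
    Algebra.FiniteType R A := by
  classical
  set m := IsLocalRing.maximalIdeal A
  obtain ⟨s, hs⟩ := (inferInstance : Algebra.FiniteType R (IsLocalRing.ResidueField A)).out
  choose g hg using IsLocalRing.residue_surjective (R := A)
  obtain ⟨M, hM⟩ := (IsNoetherian.noetherian m : m.FG)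
  let gens : Finset A := s.image g ∪ M
  let T := Algebra.adjoin R (gens : Set A)
  refine ⟨⟨gens, ?_⟩⟩
  have hsub : ((s.image g : Finset A) : Set A) ⊆ T := fun x hx =>
    Algebra.subset_adjoin (Finset.mem_union_left _ hx)
  have h1 : ∀ a : A, ∃ t ∈ T, a - t ∈ m := fun a => by
    have h := (Algebra.mem_top : IsLocalRing.residue A a ∈ (⊤ : Subalgebra R _))
    rw [← hs] at h
    have hmap : Algebra.adjoin R (s : Set (IsLocalRing.ResidueField A)) ≤
        T.map (IsScalarTower.toAlgHom R A (IsLocalRing.ResidueField A)) :=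
      Algebra.adjoin_le fun x hx => ⟨g x, hsub (Finset.mem_image_of_mem g hx), hg x⟩
    obtain ⟨t, ht, he⟩ := hmap h
    exact ⟨t, ht, Ideal.Quotient.eq.1 he.symm⟩
  have h2 : ∀ (n : ℕ) (a : A), ∃ t ∈ T, a - t ∈ m ^ n := by
    intro n
    induction n with
    | zero => exact fun a => ⟨0, zero_mem _, by simp⟩
    | succ n ih =>
      intro a
      obtain ⟨t, ht, hta⟩ := h1 a
      suffices ∀ c ∈ m, ∃ t ∈ T, c - t ∈ m ^ (n + 1) by
        obtain ⟨t', ht', h⟩ := this _ hta
        exact ⟨t + t', add_mem ht ht', by rwa [← sub_sub]⟩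
      intro c hc
      rw [← hM] at hc
      induction hc using Submodule.span_induction with
      | mem x hx => exact ⟨x, Algebra.subset_adjoin (Finset.mem_union_right _ hx), by simp⟩
      | zero => exact ⟨0, zero_mem _, by simp⟩
      | add x y _ _ hx hy =>
        obtain ⟨t, ht, hx⟩ := hx
        obtain ⟨t', ht', hy⟩ := hy
        exact ⟨t + t', add_mem ht ht', by rw [add_sub_add_comm]; exact add_mem hx hy⟩
      | smul r x hx' hx =>
        obtain ⟨t, ht, hxt⟩ := hx
        obtain ⟨u, hu, hru⟩ := ih r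
        refine ⟨u * t, mul_mem hu ht, ?_⟩
        have hxm : x ∈ m := hM ▸ hx'
        have ht_m : t ∈ m := by
          have := m.sub_mem hxm (Ideal.pow_le_self n.succ_ne_zero hxt)
          simpa using this
        rw [smul_eq_mul, show r * x - u * t = r * (x - t) + (r - u) * t by ring, pow_succ]
        exact add_mem (Ideal.mul_mem_left _ _ (by rwa [← pow_succ])) (Ideal.mul_mem_mul hru ht_m)
  obtain ⟨n, hn⟩ := (IsArtinianRing.isNilpotent_jacobson_bot (R := A))
  rw [IsLocalRing.jacobson_eq_maximalIdeal ⊥ bot_ne_top] at hn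
  refine eq_top_iff.2 fun a _ => ?_
  obtain ⟨t, ht, h⟩ := h2 n a
  rw [hn, Ideal.zero_eq_bot, Ideal.mem_bot, sub_eq_zero] at h
  exact h ▸ ht

theorem locallyOfFiniteType_artinian_iff {S : Scheme.{u}} {A : Type u} [CommRing A] [IsArtinianRing A]
    [IsLocalRing A] (f : Spec (CommRingCat.of A) ⟶ S) :
    LocallyOfFiniteType f ↔
      LocallyOfFiniteType (Spec.map (CommRingCat.ofHom (IsLocalRing.residue A)) ≫ f) := by
  constructor
  · intro h
    have : LocallyOfFiniteType (Spec.map (CommRingCat.ofHom (IsLocalRing.residue A))) :=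
      (HasRingHomProperty.Spec_iff (P := @LocallyOfFiniteType)).2
        (RingHom.Finite.of_surjective _ IsLocalRing.residue_surjective).finiteType
    infer_instance
  · intro h
    obtain ⟨U, hU, hu, -⟩ := exists_isAffineOpen_mem_and_subset (X := S)
      (x := f (IsLocalRing.closedPoint A)) (U := ⊤) trivial
    have hall : ∀ p, p ∈ f ⁻¹ᵁ U := fun p =>
      ((IsLocalRing.specializes_closedPoint (p : PrimeSpectrum A)).map f.continuous).mem_open U.2 hu
    let f₀ : Spec (CommRingCat.of A) ⟶ Spec Γ(S, U) := IsOpenImmersion.lift hU.fromSpec f (by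
      rintro _ ⟨p, rfl⟩; rw [hU.range_fromSpec]; exact hall p)
    have hf₀ : f₀ ≫ hU.fromSpec = f := IsOpenImmersion.lift_fac _ _ _
    obtain ⟨φ, hφ⟩ := Spec.map_surjective f₀
    have h' : LocallyOfFiniteType (Spec.map (φ ≫ CommRingCat.ofHom (IsLocalRing.residue A))) := by
      rw [Spec.map_comp, hφ]
      have : LocallyOfFiniteType
          ((Spec.map (CommRingCat.ofHom (IsLocalRing.residue A)) ≫ f₀) ≫ hU.fromSpec) := by
        rw [Category.assoc, hf₀]; exact h
      exact locallyOfFiniteType_of_comp _ hU.fromSpec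
    have h'' := (HasRingHomProperty.Spec_iff (P := @LocallyOfFiniteType)).1 h'
    algebraize [φ.hom]
    have : Algebra.FiniteType Γ(S, U) (IsLocalRing.ResidueField A) := h''
    have : LocallyOfFiniteType f₀ := by
      rw [← hφ]
      exact (HasRingHomProperty.Spec_iff (P := @LocallyOfFiniteType)).2 finiteType_of_artinian
    rw [← hf₀]
    infer_instance

theorem eq_of_specializes_of_isOpen {X : Type u} [TopologicalSpace X] {x y : X}
    (h : IsOpen ({x} : Set X)) (hy : y ⤳ x) : y = x :=
  hy.mem_open h rfl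

theorem finite_setOf_isOpen_singleton {X : Type u} [TopologicalSpace X] [T0Space X]
    [TopologicalSpace.NoetherianSpace X] : {x : X | IsOpen ({x} : Set X)}.Finite := by
  have hfin := TopologicalSpace.NoetherianSpace.finite_irreducibleComponents (α := X)
  refine Set.Finite.of_finite_image (f := fun x => closure ({x} : Set X)) (hfin.subset ?_) ?_
  · rintro _ ⟨x, hx, rfl⟩
    have hmem := irreducibleComponent_mem_irreducibleComponents x
    have hcl : closure ({x} : Set X) = irreducibleComponent x := by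
      refine le_antisymm (closure_minimal (Set.singleton_subset_iff.2 mem_irreducibleComponent)
        isClosed_irreducibleComponent) fun z hz => ?_
      have := subset_closure_inter_of_isPreirreducible_of_isOpen hmem.1.2 hx
        ⟨x, mem_irreducibleComponent, rfl⟩ hz
      exact closure_mono Set.inter_subset_right this
    show closure {x} ∈ irreducibleComponents X
    rw [hcl]; exact hmem
  · intro x _ y _ h
    exact (inseparable_iff_closure_eq.2 h).eq

theorem quasiFiniteAt_iff {X S : Scheme.{u}} (f : X ⟶ S) [LocallyOfFiniteType f] (x : X) :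
    f.QuasiFiniteAt x ↔ (IsClosed ({f.asFiber x} : Set (f.fiber (f x))) ∧
      ∀ x' : f.fiber (f x), x' ⤳ f.asFiber x → x' = f.asFiber x) := by
  constructor
  · intro h
    have := h.isClopen_singleton_asFiber
    exact ⟨this.1, fun x' hx' => eq_of_specializes_of_isOpen this.2 hx'⟩
  · rintro ⟨hc, hg⟩
    rw [Scheme.Hom.quasiFiniteAt_iff_isOpen_singleton_asFiber]
    have : LocallyOfFiniteType (f.fiberToSpecResidueField (f x)) :=
      MorphismProperty.pullback_snd _ _ ‹_›
    have : IsLocallyNoetherian (f.fiber (f x)) :=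
      LocallyOfFiniteType.isLocallyNoetherian (f.fiberToSpecResidueField (f x))
    refine isOpen_of_isClosed_of_stableUnderGeneralization hc fun a b hab ha => ?_
    rw [Set.mem_singleton_iff] at ha ⊢
    exact hg b (ha ▸ hab)

theorem finite_setOf_quasiFiniteAt {X S : Scheme.{u}} (f : X ⟶ S) [LocallyOfFiniteType f]
    [QuasiCompact f] (s : S) : {x : X | f x = s ∧ f.QuasiFiniteAt x}.Finite := by
  have : LocallyOfFiniteType (f.fiberToSpecResidueField s) :=
    MorphismProperty.pullback_snd _ _ ‹_›
  have : IsLocallyNoetherian (f.fiber s) :=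
    LocallyOfFiniteType.isLocallyNoetherian (f.fiberToSpecResidueField s)
  have : IsNoetherian (f.fiber s) := {}
  refine ((finite_setOf_isOpen_singleton (X := f.fiber s)).image (f.fiberι s)).subset ?_
  rintro x ⟨rfl, hx⟩
  exact ⟨f.asFiber x, (Scheme.Hom.quasiFiniteAt_iff_isOpen_singleton_asFiber).1 hx, f.fiberι_asFiber x⟩

end SweepSix
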