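import Groth.Prelude.Def_MoreMor
import Mathlib
import Groth.Agent.S1302
import Groth.Agent.S1304
import Groth.Agent.Thickening.Basic

/-!
# Properties of morphisms lifted along thickenings of the base
-/

set_option autoImplicit false
universe u

open CategoryTheory CategoryTheory.Limits AlgebraicGeometry

namespace SweepSix

section Algebra

open TensorProduct

variable {R A S B : CommRingCat.{u}} {a : R ⟶ A} {φ : R ⟶ S} {ψ : A ⟶ B} {b : S ⟶ B}

theorem ker_le_map_ker (sq : IsPushout a φ ψ b) (ha : Function.Surjective a.hom) :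
    RingHom.ker b.hom ≤ (RingHom.ker a.hom).map φ.hom := by
  let Q := S ⧸ (RingHom.ker a.hom).map φ.hom
  let q : S ⟶ CommRingCat.of Q := CommRingCat.ofHom (Ideal.Quotient.mk _)
  have hk : RingHom.ker a.hom ≤ RingHom.ker (φ ≫ q).hom := fun x hx =>
    Ideal.Quotient.eq_zero_iff_mem.2 (Ideal.mem_map_of_mem _ hx)
  let α : A ⟶ CommRingCat.of Q := CommRingCat.ofHom (a.hom.liftOfSurjective ha ⟨(φ ≫ q).hom, hk⟩)
  have hα : a ≫ α = φ ≫ q := CommRingCat.hom_ext (RingHom.liftOfRightInverse_comp _ _ _ _)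
  intro x hx
  have h : sq.desc α q hα (b x) = q x := congrArg (fun m => m.hom x) (sq.inr_desc α q hα)
  rw [show b x = 0 from hx, map_zero] at h
  exact Ideal.Quotient.eq_zero_iff_mem.1 h.symm

theorem surjective_inr (sq : IsPushout a φ ψ b) (ha : Function.Surjective a.hom) :
    Function.Surjective b.hom := by
  algebraize [a.hom, φ.hom, ψ.hom, b.hom, b.hom.comp φ.hom]
  have : IsScalarTower R A B := .of_algebraMap_eq' (congrArg CommRingCat.Hom.hom sq.w).symm
  have hp : Algebra.IsPushout R A S B := CommRingCat.isPushout_iff_isPushout.1 sq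
  have : Algebra.IsPushout R S A B := hp.symm
  intro y
  obtain ⟨z, rfl⟩ := (Algebra.IsPushout.equiv R S A B).surjective y
  induction z using TensorProduct.induction_on with
  | zero => exact ⟨0, by simp⟩
  | tmul s t =>
    obtain ⟨r, rfl⟩ := ha t
    refine ⟨s * φ.hom r, ?_⟩
    rw [Algebra.IsPushout.equiv_tmul, map_mul]
    exact congrArg (b.hom s * ·) (congrArg (fun m => m.hom r) sq.w).symm
  | add y z hy hz =>
    obtain ⟨s, hs⟩ := hy
    obtain ⟨t, ht⟩ := hz
    exact ⟨s + t, by rw [map_add, map_add, hs, ht]⟩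

theorem formallyUnramified_of_isPushout (sq : IsPushout a φ ψ b) (ha : Function.Surjective a.hom)
    (hψ : ψ.hom.FormallyUnramified)
    (hK : ∀ (M : Type u) [AddCommGroup M] [Module S M], Nonempty (M ≃ₗ[S] (letI := φ.hom.toAlgebra; Ω[S⁄R])) →
      (RingHom.ker a.hom).map φ.hom • (⊤ : Submodule S M) = ⊤ → Subsingleton M) :
    φ.hom.FormallyUnramified := by
  have hker := ker_le_map_ker sq ha
  have hbs := surjective_inr sq ha
  algebraize [a.hom, φ.hom, ψ.hom, b.hom, b.hom.comp φ.hom]
  have : IsScalarTower R A B := .of_algebraMap_eq' (congrArg CommRingCat.Hom.hom sq.w).symm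
  have : Algebra.IsPushout R A S B := CommRingCat.isPushout_iff_isPushout.1 sq
  have : Algebra.FormallyUnramified A B := hψ
  refine (Algebra.formallyUnramified_iff _ _).2 ?_
  set K : Ideal S := (RingHom.ker a.hom).map φ.hom with hKdef
  have : Subsingleton (B ⊗[S] Ω[S⁄R]) :=
    (KaehlerDifferential.tensorKaehlerEquiv R A S B).toEquiv.subsingleton
  refine hK Ω[S⁄R] ⟨LinearEquiv.refl S _⟩ ?_
  have hsub : Subsingleton ((S ⧸ RingHom.ker b.hom) ⊗[S] Ω[S⁄R]) := by
    let e : (S ⧸ RingHom.ker b.hom) ≃ₗ[S] B :=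
      (Ideal.quotientKerAlgEquivOfSurjective (f := Algebra.ofId S B) hbs).toLinearEquiv
    exact (TensorProduct.congr e (LinearEquiv.refl S Ω[S⁄R])).toEquiv.subsingleton
  have h2 : (RingHom.ker b.hom) • (⊤ : Submodule S Ω[S⁄R]) = ⊤ := by
    rw [← Submodule.Quotient.subsingleton_iff]
    exact (TensorProduct.quotTensorEquivQuotSMul Ω[S⁄R] (RingHom.ker b.hom)).symm.toEquiv.subsingleton
  exact top_unique (h2.ge.trans (Submodule.smul_mono_left hker))

theorem subsingleton_of_smul_top_of_isNilpotent {S : Type u} [CommRing S] {M : Type u} [AddCommGroup M]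
    [Module S M] {K : Ideal S} (hK : IsNilpotent K) (h : K • (⊤ : Submodule S M) = ⊤) :
    Subsingleton M := by
  obtain ⟨n, hn⟩ := hK
  have hpow : ∀ k, K ^ k • (⊤ : Submodule S M) = ⊤ := by
    intro k
    induction k with
    | zero => simp
    | succ k ih => rw [pow_succ, ← smul_eq_mul, Submodule.smul_assoc, h, ih]
  have := hpow n
  rw [hn, Ideal.zero_eq_bot, Submodule.bot_smul] at this
  exact (Submodule.subsingleton_iff S).1 (subsingleton_of_bot_eq_top this)

theorem formallyUnramified_of_nilpotent (sq : IsPushout a φ ψ b) (ha : Function.Surjective a.hom)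
    (hn : IsNilpotent (RingHom.ker a.hom)) (hψ : ψ.hom.FormallyUnramified) :
    φ.hom.FormallyUnramified := by
  refine formallyUnramified_of_isPushout sq ha hψ fun M _ _ _ h => subsingleton_of_smul_top_of_isNilpotent ?_ h
  obtain ⟨n, hn⟩ := hn
  exact ⟨n, by rw [← Ideal.map_pow, hn]; simp⟩

theorem formallyUnramified_of_finiteType (sq : IsPushout a φ ψ b) (ha : Function.Surjective a.hom)
    (hn : RingHom.ker a.hom ≤ nilradical R) (hft : φ.hom.FiniteType)
    (hψ : ψ.hom.FormallyUnramified) : φ.hom.FormallyUnramified := by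
  refine formallyUnramified_of_isPushout sq ha hψ fun M _ _ ⟨e⟩ h => ?_
  algebraize [φ.hom]
  have : Algebra.EssFiniteType R S := inferInstance
  have : Module.Finite S M := Module.Finite.equiv e.symm
  have hjac : (RingHom.ker a.hom).map φ.hom ≤ (⊥ : Ideal S).jacobson := by
    refine le_trans ?_ Ideal.radical_le_jacobson
    rw [Ideal.map_le_iff_le_comap]
    intro x hx
    obtain ⟨n, hxn⟩ := hn hx
    exact ⟨n, by rw [← map_pow, hxn, map_zero]; exact Submodule.zero_mem _⟩
  have := Submodule.eq_bot_of_le_smul_of_le_jacobson_bot _ (⊤ : Submodule S M) Module.Finite.fg_top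
    h.ge hjac
  exact (Submodule.subsingleton_iff S).1 (subsingleton_of_bot_eq_top this.symm)

theorem finiteType_of_nilpotent (sq : IsPushout a φ ψ b) (ha : Function.Surjective a.hom)
    (hn : IsNilpotent (RingHom.ker a.hom)) (hψ : ψ.hom.FiniteType) : φ.hom.FiniteType := by
  have hker := ker_le_map_ker sq ha
  have hbs := surjective_inr sq ha
  algebraize [a.hom, φ.hom, ψ.hom, b.hom, b.hom.comp φ.hom]
  have : IsScalarTower R A B := .of_algebraMap_eq' (congrArg CommRingCat.Hom.hom sq.w).symm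
  have : Algebra.FiniteType R A :=
    .of_surjective (IsScalarTower.toAlgHom R R A) ha
  have : Algebra.FiniteType R B := Algebra.FiniteType.trans (S := A) inferInstance inferInstance
  obtain ⟨s, hs⟩ := (inferInstance : Algebra.FiniteType R B).out
  choose g hg using hbs
  classical
  refine ⟨⟨s.image g, top_unique ?_⟩⟩
  let T := Algebra.adjoin R ((s.image g : Finset S) : Set S)
  have hTmap : T.map (IsScalarTower.toAlgHom R S B) = ⊤ := by
    rw [AlgHom.map_adjoin, eq_top_iff, ← hs]
    refine Algebra.adjoin_mono fun x hx => ⟨g x, by simpa using ⟨x, hx, rfl⟩, hg x⟩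
  set J := RingHom.ker a.hom
  have h1 : (⊤ : Submodule R S) ≤ Subalgebra.toSubmodule T ⊔ J • ⊤ := by
    intro x _
    obtain ⟨t, ht, hxt⟩ : IsScalarTower.toAlgHom R S B x ∈ T.map (IsScalarTower.toAlgHom R S B) :=
      hTmap ▸ Algebra.mem_top
    rw [← add_sub_cancel t x]
    refine Submodule.add_mem_sup ht ?_
    have hd : x - t ∈ J.map (algebraMap R S) := hker (by
      rw [RingHom.mem_ker, map_sub, sub_eq_zero]
      exact hxt.symm)
    rw [Ideal.smul_top_eq_map]
    exact hd
  have h2 : ∀ k, (⊤ : Submodule R S) ≤ Subalgebra.toSubmodule T ⊔ J ^ k • ⊤ := by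
    intro k
    induction k with
    | zero => rw [pow_zero, Ideal.one_eq_top, Submodule.top_smul]; exact le_sup_right
    | succ k ih =>
      refine ih.trans (sup_le le_sup_left ?_)
      refine (Submodule.smul_mono le_rfl h1).trans ?_
      rw [Submodule.smul_sup, ← Submodule.smul_assoc, smul_eq_mul, ← pow_succ]
      exact sup_le_sup_right Submodule.smul_le_right _
  obtain ⟨n, hn⟩ := hn
  have := h2 n
  rw [hn, Ideal.zero_eq_bot, Submodule.bot_smul, sup_bot_eq] at this
  exact fun x _ => this trivial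

end Algebra

variable {X X' Y Y' : Scheme.{u}} {iX : X ⟶ X'} {iY : Y ⟶ Y'} {f : X ⟶ Y} {f' : X' ⟶ Y'}

theorem of_affine_pieces (P : MorphismProperty Scheme.{u}) [IsZariskiLocalAtTarget P] [IsZariskiLocalAtSource P]
    [P.IsStableUnderBaseChange] (hc : IsPullback iX f f' iY) (hP : P f)
    (key : ∀ (U : Y'.affineOpens) (V : Scheme.{u}) [IsAffine V] (g : V ⟶ (f' ⁻¹ᵁ U.1 : X'.Opens))
      [IsOpenImmersion g],
      P (pullback.fst (iY ∣_ U.1) (g ≫ f' ∣_ U.1)) → P (g ≫ f' ∣_ U.1)) : P f' := by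
  refine (IsZariskiLocalAtTarget.iff_of_iSup_eq_top (P := P) (fun U : Y'.affineOpens => U.1)
    (iSup_affineOpens_eq_top _)).2 fun U => ?_
  refine (IsZariskiLocalAtSource.iff_of_openCover (P := P) ((f' ⁻¹ᵁ U.1).toScheme.affineCover)).2
    fun i => key U _ _ ?_
  set r := f' ∣_ U.1
  set j := iY ∣_ U.1
  have h1 := (IsPullback.of_hasPullback j r).flip.paste_horiz (isPullback_morphismRestrict f' U.1).flip
  rw [morphismRestrict_ι] at h1
  let e := hc.lift (pullback.snd j r ≫ (f' ⁻¹ᵁ U.1).ι) (pullback.fst j r ≫ (iY ⁻¹ᵁ U.1).ι)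
    (by rw [h1.w, Category.assoc])
  have h2 : IsPullback e (pullback.fst j r) f (iY ⁻¹ᵁ U.1).ι := by
    refine IsPullback.of_right ?_ (hc.lift_snd _ _ _) hc
    rw [hc.lift_fst]
    exact h1
  have hr : P (pullback.fst j r) := MorphismProperty.of_isPullback h2 hP
  set g := (f' ⁻¹ᵁ U.1).toScheme.affineCover.f i
  let m : pullback j (g ≫ r) ⟶ pullback j r :=
    pullback.map _ _ _ _ (𝟙 _) g (𝟙 _) (by simp) (by simp)
  have : IsOpenImmersion m :=
    MorphismProperty.pullbackMap (P := @IsOpenImmersion) inferInstance inferInstance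
      (Category.id_comp _).symm rfl
  have : pullback.fst j (g ≫ r) = m ≫ pullback.fst j r :=
    ((pullback.lift_fst _ _ _).trans (Category.comp_id _)).symm
  rw [this]
  exact IsZariskiLocalAtSource.comp hr m

theorem isPushout_piece (iY : Y ⟶ Y') [IsClosedImmersion iY] (f' : X' ⟶ Y') (U : Y'.affineOpens)
    {V : Scheme.{u}} [IsAffine V] (g : V ⟶ (f' ⁻¹ᵁ U.1 : X'.Opens)) :
    IsAffine (pullback (iY ∣_ U.1) (g ≫ f' ∣_ U.1)) ∧
    IsAffine (iY ⁻¹ᵁ U.1 : Y.Opens) ∧
    IsPushout (iY ∣_ U.1).appTop (g ≫ f' ∣_ U.1).appTop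
      (pullback.fst (iY ∣_ U.1) (g ≫ f' ∣_ U.1)).appTop
      (pullback.snd (iY ∣_ U.1) (g ≫ f' ∣_ U.1)).appTop ∧
    Function.Surjective (iY ∣_ U.1).appTop.hom := by
  have : IsAffine (U.1 : Y'.Opens) := U.2
  have : IsClosedImmersion (iY ∣_ U.1) := IsZariskiLocalAtTarget.restrict ‹_› _
  have hYU : IsAffine (iY ⁻¹ᵁ U.1 : Y.Opens) := isAffine_of_isAffineHom (iY ∣_ U.1)
  refine ⟨isAffine_of_isAffineHom (pullback.snd (iY ∣_ U.1) (g ≫ f' ∣_ U.1)), hYU,
    isPushout_appTop_of_isPullback (IsPullback.of_hasPullback _ _), ?_⟩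
  exact (iY ∣_ U.1).app_surjective ⊤ (isAffineOpen_top _)

theorem ker_le_nilradical (iY : Y ⟶ Y') [Surjective iY] (U : Y'.affineOpens) :
    RingHom.ker (iY ∣_ U.1).appTop.hom ≤ nilradical Γ(U.1, ⊤) := by
  have : IsAffine (U.1 : Y'.Opens) := U.2
  have : Surjective (iY ∣_ U.1) := IsZariskiLocalAtTarget.restrict ‹_› _
  intro x hx
  refine (Scheme.isNilpotent_iff_basicOpen_eq_bot_of_isCompact (isAffineOpen_top _).isCompact x).2 ?_
  have h : (iY ∣_ U.1) ⁻¹ᵁ U.1.toScheme.basicOpen x = ⊥ := by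
    rw [Scheme.preimage_basicOpen]
    show Scheme.basicOpen _ ((iY ∣_ U.1).appTop x) = ⊥
    rw [show (iY ∣_ U.1).appTop x = 0 from hx]
    exact Scheme.basicOpen_zero _ _
  refine eq_bot_iff.2 fun p hp => ?_
  obtain ⟨q, rfl⟩ := (iY ∣_ U.1).surjective p
  exact (h.le hp).elim

theorem ker_isNilpotent (iY : Y ⟶ Y') [QuasiCompact iY] (hn : IsNilpotent iY.ker) (U : Y'.affineOpens) :
    IsNilpotent (RingHom.ker (iY ∣_ U.1).appTop.hom) := by
  obtain ⟨n, hn⟩ := hn
  have key : ∀ (V : Y'.Opens) (_ : IsAffineOpen V), RingHom.ker (iY.app V).hom ^ n = ⊥ := by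
    intro V hV
    have h : (iY.ker ^ n).ideal ⟨V, hV⟩ = ⊥ := by rw [hn]; rfl
    rwa [Scheme.IdealSheafData.ideal_pow, Pi.pow_apply, Scheme.Hom.ker_apply] at h
  refine ⟨n, ?_⟩
  have hU : IsAffineOpen (U.1.ι ''ᵁ ⊤) := by rw [Scheme.Opens.ι_image_top]; exact U.2
  have hle : RingHom.ker (iY ∣_ U.1).appTop.hom ≤ RingHom.ker (iY.app (U.1.ι ''ᵁ ⊤)).hom := by
    intro x hx
    rw [RingHom.mem_ker, morphismRestrict_appTop] at hx
    exact (ConcreteCategory.bijective_of_isIso (C := CommRingCat.{u})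
      (Y.presheaf.map (eqToHom _).op)).1 (hx.trans (map_zero _).symm)
  exact le_bot_iff.1 ((Ideal.pow_right_mono hle n).trans (key _ hU).le)

theorem formallyUnramified_of_thickening (hY : MoreMor.IsThickening iY) (hc : IsPullback iX f f' iY)
    [LocallyOfFiniteType f'] (h : FormallyUnramified f) : FormallyUnramified f' := by
  obtain ⟨_, _⟩ := hY
  refine of_affine_pieces @FormallyUnramified hc h fun U V _ g _ hp => ?_
  obtain ⟨_, _, sq, hs⟩ := isPushout_piece iY f' U g
  have : IsAffine (U.1 : Y'.Opens) := U.2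
  refine (HasRingHomProperty.iff_of_isAffine (P := @FormallyUnramified)).2 ?_
  refine formallyUnramified_of_finiteType sq hs (ker_le_nilradical iY U) ?_
    ((HasRingHomProperty.iff_of_isAffine (P := @FormallyUnramified)).1 hp)
  have : LocallyOfFiniteType (f' ∣_ U.1) := IsZariskiLocalAtTarget.restrict ‹_› _
  exact (HasRingHomProperty.iff_of_isAffine (P := @LocallyOfFiniteType)).1 inferInstance

theorem formallyUnramified_of_finiteOrder (hY : MoreMor.IsFiniteOrderThickening iY) (hc : IsPullback iX f f' iY)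
    (h : FormallyUnramified f) : FormallyUnramified f' := by
  obtain ⟨⟨_, _⟩, hn⟩ := hY
  refine of_affine_pieces @FormallyUnramified hc h fun U V _ g _ hp => ?_
  obtain ⟨_, _, sq, hs⟩ := isPushout_piece iY f' U g
  have : IsAffine (U.1 : Y'.Opens) := U.2
  refine (HasRingHomProperty.iff_of_isAffine (P := @FormallyUnramified)).2 ?_
  exact formallyUnramified_of_nilpotent sq hs (ker_isNilpotent iY hn U)
    ((HasRingHomProperty.iff_of_isAffine (P := @FormallyUnramified)).1 hp)

theorem locallyOfFiniteType_of_finiteOrder (hY : MoreMor.IsFiniteOrderThickening iY) (hc : IsPullback iX f f' iY)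
    (h : LocallyOfFiniteType f) : LocallyOfFiniteType f' := by
  obtain ⟨⟨_, _⟩, hn⟩ := hY
  refine of_affine_pieces @LocallyOfFiniteType hc h fun U V _ g _ hp => ?_
  obtain ⟨_, _, sq, hs⟩ := isPushout_piece iY f' U g
  have : IsAffine (U.1 : Y'.Opens) := U.2
  refine (HasRingHomProperty.iff_of_isAffine (P := @LocallyOfFiniteType)).2 ?_
  exact finiteType_of_nilpotent sq hs (ker_isNilpotent iY hn U)
    ((HasRingHomProperty.iff_of_isAffine (P := @LocallyOfFiniteType)).1 hp)

theorem mono_of_finiteOrder (hY : MoreMor.IsFiniteOrderThickening iY) (hc : IsPullback iX f f' iY)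
    [Mono f] : Mono f' := by
  have hU' := formallyUnramified_of_finiteOrder hY hc
  obtain ⟨⟨_, _⟩, hn⟩ := hY
  have : FormallyUnramified f := inferInstance
  have := hU' this
  refine ⟨fun {T} a b hab => Scheme.hom_ext_of_forall _ _ fun t => ?_⟩
  obtain ⟨U, hU, htU, -⟩ := exists_isAffineOpen_mem_and_subset (X := Y') (x := f' (a t)) (U := ⊤) trivial
  obtain ⟨W, hW, htW, hWU⟩ := exists_isAffineOpen_mem_and_subset (X := T) (x := t)
    (U := (a ≫ f') ⁻¹ᵁ U) htU
  refine ⟨W, htW, ?_⟩
  have : IsAffine U := hU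
  have : IsAffine W := hW
  let q : (W : Scheme) ⟶ U := IsOpenImmersion.lift U.ι (W.ι ≫ a ≫ f') (by
    rintro _ ⟨w, rfl⟩
    rw [Scheme.Opens.range_ι]
    exact hWU w.2)
  have hq : q ≫ U.ι = W.ι ≫ a ≫ f' := IsOpenImmersion.lift_fac _ _ _
  let j := iY ∣_ U
  have : IsClosedImmersion j := IsZariskiLocalAtTarget.restrict ‹_› _
  have : Surjective j := IsZariskiLocalAtTarget.restrict ‹_› _
  have : IsAffine (iY ⁻¹ᵁ U : Y.Opens) := isAffine_of_isAffineHom j
  let i := pullback.snd j q
  have : IsAffine (pullback j q) := isAffine_of_isAffineHom i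
  have sq := isPushout_appTop_of_isPullback (IsPullback.of_hasPullback j q)
  obtain ⟨n, hn'⟩ := ker_isNilpotent iY hn ⟨U, hU⟩
  have hker : RingHom.ker i.appTop.hom ^ n = ⊥ := by
    refine le_bot_iff.1 ((Ideal.pow_right_mono
      (ker_le_map_ker sq (j.app_surjective ⊤ (isAffineOpen_top _))) n).trans ?_)
    rw [← Ideal.map_pow, show RingHom.ker j.appTop.hom ^ n = ⊥ from hn', Ideal.map_bot]
  have hnil : IsNilpotent i.ker := ⟨n, Scheme.IdealSheafData.ext_of_isAffine (by
    rw [Scheme.IdealSheafData.ideal_pow, Pi.pow_apply, Scheme.Hom.ker_apply]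
    exact hker)⟩
  have hfst : ∀ c : (W : Scheme) ⟶ X', c ≫ f' = q ≫ U.ι →
      (i ≫ c) ≫ f' = (pullback.fst j q ≫ (iY ⁻¹ᵁ U).ι) ≫ iY := by
    intro c hcq
    rw [Category.assoc, hcq, Category.assoc, ← morphismRestrict_ι]
    exact (pullback.condition_assoc _).symm
  have h1 := hfst (W.ι ≫ a) (by rw [Category.assoc, hq])
  have h2 := hfst (W.ι ≫ b) (by rw [Category.assoc, ← hab, hq])
  have heq : hc.lift _ _ h1 = hc.lift _ _ h2 := by
    rw [← cancel_mono f, hc.lift_snd, hc.lift_snd]
  refine FormallyUnramified.hom_ext i hnil f' ?_ (by rw [Category.assoc, Category.assoc, hab])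
  rw [← hc.lift_fst _ _ h1, ← hc.lift_fst _ _ h2, heq]

theorem mono_of_thickening (hY : MoreMor.IsThickening iY) (hc : IsPullback iX f f' iY)
    [LocallyOfFiniteType f'] [Mono f] : Mono f' := by
  have hu : UniversallyInjective f' := by
    obtain ⟨_, _⟩ := hY
    have : Surjective iX := MorphismProperty.of_isPullback hc.flip ‹Surjective iY›
    refine ThickeningLib.universallyInjective_of_comp_surjective iX f' ?_
    rw [hc.w]
    exact MorphismProperty.comp_mem (W := @UniversallyInjective) _ _ inferInstance inferInstance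
  have := formallyUnramified_of_thickening hY hc inferInstance
  have : Surjective (pullback.diagonal f') := (UniversallyInjective.iff_diagonal _).1 hu
  have : IsIso (pullback.diagonal f') := (isIso_iff_isOpenImmersion_and_epi_base _).2
    ⟨inferInstance, (TopCat.epi_iff_surjective _).2 (pullback.diagonal f').surjective⟩
  exact (pullback.isIso_diagonal_iff f').1 inferInstance

theorem isClosedImmersion_of_thickening (hY : MoreMor.IsThickening iY) (hc : IsPullback iX f f' iY)
    [LocallyOfFiniteType f'] [IsClosedImmersion f] : IsClosedImmersion f' := by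
  have hm := mono_of_thickening hY hc
  obtain ⟨_, _⟩ := hY
  have hX : MoreMor.IsThickening iX := ⟨MorphismProperty.of_isPullback hc.flip ‹IsClosedImmersion iY›,
    MorphismProperty.of_isPullback hc.flip ‹Surjective iY›⟩
  have : IsAffineHom f' := (Groth.Agent.S1302.result iX iY f f' hX ⟨‹_›, ‹_›⟩ hc.w).1 inferInstance
  have : UniversallyClosed f' := (Groth.Agent.S1304.result iX iY f f' hX ⟨‹_›, ‹_›⟩ hc.w).1 inferInstance
  exact (IsClosedImmersion.iff_isProper_and_mono f').2 ⟨{}, hm⟩

theorem locallyQuasiFinite_of_thickening (hY : MoreMor.IsThickening iY) (hc : IsPullback iX f f' iY)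
    [LocallyOfFiniteType f'] [LocallyQuasiFinite f] : LocallyQuasiFinite f' := by
  obtain ⟨_, _⟩ := hY
  have : IsClosedImmersion iX := MorphismProperty.of_isPullback hc.flip ‹IsClosedImmersion iY›
  have : Surjective iX := MorphismProperty.of_isPullback hc.flip ‹Surjective iY›
  rw [locallyQuasiFinite_iff_isDiscrete_preimage_singleton]
  intro y'
  obtain ⟨y, rfl⟩ := iY.surjective y'
  have hd := f.isDiscrete_preimage_singleton y
  have himg : f' ⁻¹' {iY y} = iX '' (f ⁻¹' {y}) := by
    ext p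
    constructor
    · intro hp
      obtain ⟨x, rfl⟩ := iX.surjective p
      refine ⟨x, iY.isEmbedding.injective ?_, rfl⟩
      rw [← Scheme.Hom.comp_apply, ← hc.w]
      exact hp
    · rintro ⟨x, hx, rfl⟩
      show f' (iX x) = iY y
      rw [← Scheme.Hom.comp_apply, hc.w, Scheme.Hom.comp_apply]
      exact congrArg iY hx
  rw [himg]
  exact hd.image iX.isEmbedding.isInducing

end SweepSix
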