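import Groth.Agent.ConnBC.Tensor

/-! Tensor products of domains over an algebraically closed field are domains. -/

set_option autoImplicit false
universe u v w

open TensorProduct

namespace SweepSix

variable {k : Type u} [Field k] [IsAlgClosed k]

theorem mul_eq_zero_tensor_finiteType {R : Type v} [CommRing R] [IsDomain R] [Algebra k R]
    [Algebra.FiniteType k R] {A : Type w} [CommRing A] [IsDomain A] [Algebra k A] {e e' : R ⊗[k] A}
    (he : e * e' = 0) : e = 0 ∨ e' = 0 := by
  classical
  let b := Module.Free.chooseBasis k A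
  let B := Algebra.TensorProduct.basis R b
  let ψ : (R →ₐ[k] k) → (R ⊗[k] A →ₐ[k] A) := fun φ =>
    Algebra.TensorProduct.lift ((Algebra.ofId k A).comp φ) (AlgHom.id k A) fun _ _ => Commute.all _ _
  have hψ : ∀ φ z i, b.repr (ψ φ z) i = φ (B.repr z i) := by
    intro φ z i
    induction z using TensorProduct.induction_on with
    | zero => simp
    | tmul r a =>
      simp only [ψ, Algebra.TensorProduct.lift_tmul, AlgHom.coe_comp, Function.comp_apply, AlgHom.coe_id, id_eq,
        Algebra.ofId_apply, ← Algebra.smul_def, map_smul, Finsupp.smul_apply, smul_eq_mul, B,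
        Algebra.TensorProduct.basis_repr_tmul, Finsupp.mapRange_apply, map_mul, AlgHom.commutes,
        Algebra.algebraMap_self, RingHom.id_apply]
    | add x y hx hy => simp [hx, hy]
  have key : ∀ i j, B.repr e i * B.repr e' j = 0 := by
    intro i j
    have hjac : (Ideal.span {(0 : R)}).jacobson = (Ideal.span {(0 : R)}).radical := by
      haveI : IsJacobsonRing R := isJacobsonRing_of_finiteType (A := k)
      exact (Ideal.radical_eq_jacobson _).symm
    have hmem : B.repr e i * B.repr e' j ∈ (Ideal.span {(0 : R)}).jacobson := by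
      rw [Ideal.jacobson, Submodule.mem_sInf]
      rintro m ⟨-, hm⟩
      letI : Field (R ⧸ m) := Ideal.Quotient.field m
      haveI : Module.Finite k (R ⧸ m) := finite_of_finite_type_of_isJacobsonRing k (R ⧸ m)
      let eqv := AlgEquiv.ofBijective (Algebra.ofId k (R ⧸ m)) IsAlgClosed.algebraMap_bijective_of_isIntegral
      let φ : R →ₐ[k] k := eqv.symm.toAlgHom.comp (Ideal.Quotient.mkₐ k m)
      have hφ : ∀ r, φ r = 0 → r ∈ m := fun r hr => Ideal.Quotient.eq_zero_iff_mem.mp
        (eqv.symm.injective (hr.trans (map_zero eqv.symm).symm))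
      apply hφ
      rw [map_mul, ← hψ, ← hψ]
      have h0 : ψ φ e * ψ φ e' = 0 := by rw [← map_mul, he, map_zero]
      rcases mul_eq_zero.mp h0 with h | h <;> simp [h]
    rw [hjac] at hmem
    obtain ⟨n, hn⟩ := hmem
    rw [Ideal.span_singleton_eq_bot.mpr rfl, Ideal.mem_bot] at hn
    exact pow_eq_zero_iff (fun h => by simp [h] at hn) |>.mp hn
  by_cases h : ∀ i, B.repr e i = 0
  · exact Or.inl (B.repr.injective (Finsupp.ext fun i => by rw [h i]; simp))
  · push Not at h
    obtain ⟨i, hi⟩ := h
    exact Or.inr (B.repr.injective (Finsupp.ext fun j => by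
      rw [(mul_eq_zero.mp (key i j)).resolve_left hi]; simp))

theorem isDomain_tensor (F : Type v) [Field F] [Algebra k F] (A : Type w) [CommRing A] [IsDomain A]
    [Algebra k A] : IsDomain (F ⊗[k] A) := by
  classical
  have : Nontrivial (F ⊗[k] A) :=
    Algebra.TensorProduct.nontrivial_of_algebraMap_injective_of_flat_left (R := k) (A := F) (B := A)
      (FaithfulSMul.algebraMap_injective k A)
  have : NoZeroDivisors (F ⊗[k] A) := by
    refine ⟨fun {e e'} he => ?_⟩
    obtain ⟨S, hS⟩ := TensorProduct.exists_finset (R := k) e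
    obtain ⟨T, hT⟩ := TensorProduct.exists_finset (R := k) e'
    let R := Algebra.adjoin k (((S ∪ T).image Prod.fst : Finset F) : Set F)
    haveI : Algebra.FiniteType k R := R.fg_iff_finiteType.mp (Subalgebra.fg_adjoin_finset _)
    let f : R ⊗[k] A →ₐ[k] F ⊗[k] A := Algebra.TensorProduct.map R.val (AlgHom.id k A)
    have hf : Function.Injective f := fun x y hxy => by
      exact Module.Flat.rTensor_preserves_injective_linearMap (M := A) R.val.toLinearMap Subtype.val_injective hxy
    have hrange : ∀ U : Finset (F × A), U ⊆ S ∪ T → ∑ p ∈ U, p.1 ⊗ₜ[k] p.2 ∈ f.range := fun U hU =>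
      sum_mem fun p hp => ⟨⟨p.1, Algebra.subset_adjoin (Finset.mem_coe.mpr
        (Finset.mem_image_of_mem Prod.fst (hU hp)))⟩ ⊗ₜ[k] p.2, by simp [f]⟩
    obtain ⟨a, rfl⟩ : e ∈ f.range := hS ▸ hrange S Finset.subset_union_left
    obtain ⟨a', rfl⟩ : e' ∈ f.range := hT ▸ hrange T Finset.subset_union_right
    have : a * a' = 0 := hf (by rw [map_mul, map_zero]; exact he)
    exact (mul_eq_zero_tensor_finiteType this).imp (fun h => by subst h; exact map_zero f)
      (fun h => by subst h; exact map_zero f)
  exact NoZeroDivisors.to_isDomain _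

end SweepSix
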