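import Groth.Agent.ConnBC.Main
import Groth.Agent.SweepSix.TensorDomain
import Mathlib.AlgebraicGeometry.Geometrically.Integral
import Mathlib.FieldTheory.PurelyInseparable.Basic
import Mathlib.RingTheory.Spectrum.Prime.Homeomorph
import Mathlib.RingTheory.Flat.FaithfullyFlat.Algebra
import Mathlib.AlgebraicGeometry.Morphisms.Flat

/-!
# Geometric connectedness, irreducibility and descent along field extensions
-/

set_option autoImplicit false
universe u

open CategoryTheory CategoryTheory.Limits AlgebraicGeometry TensorProduct Topology

noncomputable section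

namespace SweepSix.GeomConn

open ConnBC

variable {k : Type u} [Field k]

theorem gi_specMap [IsAlgClosed k] (K : Type u) [Field K] [Algebra k K] :
    GeometricallyIrreducible (Spec.map (CommRingCat.ofHom (algebraMap k K))) := by
  refine ⟨geometrically_iff_of_commRing_of_isClosedUnderIsomorphisms.mpr fun F _ _ => ?_⟩
  have := isDomain_tensor (k := k) K F
  exact (pullbackSpecIso k K F).hom.homeomorph.irreducibleSpace_iff.mpr
    (inferInstanceAs (IrreducibleSpace (PrimeSpectrum (K ⊗[k] F))))

theorem gc_specMap_of_purelyInseparable (K : Type u) [Field K] [Algebra k K] [IsPurelyInseparable k K] :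
    GeometricallyConnected (Spec.map (CommRingCat.ofHom (algebraMap k K))) := by
  refine ⟨geometrically_iff_of_commRing_of_isClosedUnderIsomorphisms.mpr fun F _ _ => ?_⟩
  refine (Scheme.homeoOfIso ((pullbackSymmetry _ _) ≪≫ pullbackSpecIso k F K)).connectedSpace_iff.mpr ?_
  have h := PrimeSpectrum.isHomeomorph_comap_of_isPurelyInseparable k K F
  exact (h.homeomorph _).connectedSpace_iff.mpr inferInstance

theorem gc_specMap (K : Type u) [Field K] [Algebra k K] (hk : separableClosure k K = ⊥) :
    GeometricallyConnected (Spec.map (CommRingCat.ofHom (algebraMap k K))) := by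
  let k' := algebraicClosure k K
  haveI : Algebra.IsAlgebraic k k' := algebraicClosure.isAlgebraic k K
  haveI : IsPurelyInseparable k k' := by
    rw [← separableClosure.eq_bot_iff]
    refine eq_bot_iff.mpr fun x hx => ?_
    have : (x : K) ∈ separableClosure k K :=
      mem_separableClosure_iff.mpr ((isSeparable_map_iff k'.val Subtype.val_injective).mpr
        (mem_separableClosure_iff.mp hx))
    rw [hk, IntermediateField.mem_bot] at this
    obtain ⟨c, hc⟩ := this
    exact IntermediateField.mem_bot.mpr ⟨c, Subtype.ext hc⟩
  haveI := gc_specMap_of_purelyInseparable (k := k) k'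
  haveI := geometricallyConnected_specMap (k := k') K (algebraicClosure.algebraicClosure_eq_bot k K)
  rw [IsScalarTower.algebraMap_eq k k' K, CommRingCat.ofHom_comp, Spec.map_comp]
  exact GeometricallyConnected.comp _ _

theorem separableClosure_eq_bot_of_isAlgClosed [IsAlgClosed k] (K : Type u) [Field K] [Algebra k K] :
    separableClosure k K = ⊥ :=
  IntermediateField.eq_bot_of_isAlgClosed_of_isAlgebraic _

theorem separableClosure_eq_bot_of_forall (K : Type u) [Field K] [Algebra k K]
    (h : ∀ a : K, IsIntegral k a → a ∈ (algebraMap k K).range) : separableClosure k K = ⊥ :=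
  eq_bot_iff.mpr fun a ha => IntermediateField.mem_bot.mpr (h a (mem_separableClosure_iff.mp ha).isIntegral)

variable {X : Scheme.{u}} (f : X ⟶ Spec (CommRingCat.of k))

theorem isConnected_preimage_cc (K : Type u) [Field K] [Algebra k K] (x : X) (A : Set X)
    (hA : A ⊆ connectedComponent x) (hc : _root_.IsConnected (pr f K ⁻¹' A)) :
    _root_.IsConnected (pr f K ⁻¹' connectedComponent x) := by
  obtain ⟨a, ha⟩ := hc.nonempty
  suffices h : pr f K ⁻¹' connectedComponent x = connectedComponent a from h ▸ isConnected_connectedComponent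
  refine Set.Subset.antisymm (fun z hz => ?_) fun z hz => ?_
  · have him := image_connectedComponent f K z
    rw [← connectedComponent_eq hz] at him
    obtain ⟨w, hw, hwa⟩ : pr f K a ∈ pr f K '' connectedComponent z := him ▸ hA ha
    have hwA : w ∈ pr f K ⁻¹' A := by rw [Set.mem_preimage, hwa]; exact ha
    have h1 : w ∈ connectedComponent a := hc.isPreconnected.subset_connectedComponent ha hwA
    rw [connectedComponent_eq h1, ← connectedComponent_eq hw]
    exact mem_connectedComponent
  · have : pr f K z ∈ connectedComponent (pr f K a) :=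
      (image_connectedComponent f K a).le ⟨z, hz, rfl⟩
    rwa [← connectedComponent_eq (hA ha)] at this

theorem isConnected_preimage_range (K : Type u) [Field K] [Algebra k K] {T : Scheme.{u}} (j : T ⟶ X)
    (g : T ⟶ Spec (CommRingCat.of k)) (w : j ≫ f = g) [GeometricallyConnected g] :
    _root_.IsConnected (pr f K ⁻¹' Set.range j) := by
  let s := Spec.map (CommRingCat.ofHom (algebraMap k K))
  let m : pullback g s ⟶ pullback f s := pullback.map _ _ _ _ j (𝟙 _) (𝟙 _) (by simp [w]) (by simp)
  have : ConnectedSpace ↥(pullback g s) :=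
    GeometricallyConnected.geometrically_connectedSpace s _ _ (.of_hasPullback _ _)
  have e : Set.range m = pr f K ⁻¹' Set.range j := by
    simp only [m, Scheme.Pullback.range_map]
    simp [ConnBC.pr, s]
  rw [← e]
  exact isConnected_range m.continuous

theorem isConnected_preimage_cc_of_source (K : Type u) [Field K] [Algebra k K] {T : Scheme.{u}} (j : T ⟶ X)
    (g : T ⟶ Spec (CommRingCat.of k)) (w : j ≫ f = g) [GeometricallyConnected g] (t : T) :
    _root_.IsConnected (pr f K ⁻¹' connectedComponent (j t)) := by
  have : Nonempty T := ⟨t⟩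
  have : ConnectedSpace T := GeometricallyConnected.connectedSpace_of_subsingleton g
  exact isConnected_preimage_cc f K (j t) (Set.range j)
    ((isPreconnected_range j.continuous).subset_connectedComponent ⟨t, rfl⟩)
    (isConnected_preimage_range f K j g w)

theorem gc_of_source [ConnectedSpace X] {T : Scheme.{u}} [Nonempty T] (j : T ⟶ X)
    (g : T ⟶ Spec (CommRingCat.of k)) (w : j ≫ f = g) [GeometricallyConnected g] : GeometricallyConnected f := by
  refine ⟨geometrically_iff_of_commRing_of_isClosedUnderIsomorphisms.mpr fun K _ _ => ?_⟩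
  have h := isConnected_preimage_cc_of_source f K j g w (Classical.arbitrary T)
  rw [PreconnectedSpace.connectedComponent_eq_univ, Set.preimage_univ] at h
  exact connectedSpace_iff_univ.mpr h

theorem gc_of_point [ConnectedSpace X] (x : X) (φ : k →+* X.residueField x)
    (hφ : Spec.map (CommRingCat.ofHom φ) = X.fromSpecResidueField x ≫ f)
    (h : letI := φ.toAlgebra; separableClosure k (X.residueField x) = ⊥) : GeometricallyConnected f := by
  let := φ.toAlgebra
  haveI : GeometricallyConnected (Spec.map (CommRingCat.ofHom φ)) := gc_specMap (X.residueField x) h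
  exact gc_of_source f (X.fromSpecResidueField x) _ hφ.symm

theorem gc_of_isAlgClosed [IsAlgClosed k] [ConnectedSpace X] : GeometricallyConnected f := by
  obtain ⟨x⟩ : Nonempty X := inferInstance
  obtain ⟨φ, hφ⟩ := Spec.map_surjective (X.fromSpecResidueField x ≫ f)
  let := φ.hom.toAlgebra
  exact gc_of_point f x φ.hom hφ (separableClosure_eq_bot_of_isAlgClosed (X.residueField x))

theorem gi_pr [IsAlgClosed k] (K : Type u) [Field K] [Algebra k K] : GeometricallyIrreducible (pr f K) :=
  MorphismProperty.pullback_fst _ _ (gi_specMap K)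

theorem isConnected_preimage [IsAlgClosed k] (K : Type u) [Field K] [Algebra k K] {Z : Set X}
    (hZ : _root_.IsConnected Z) : _root_.IsConnected (pr f K ⁻¹' Z) := by
  haveI := gi_pr f K
  have hfib : ∀ x, _root_.IsConnected (pr f K ⁻¹' {x}) := fun x =>
    ((pr f K).isIrreducible_preimage (pr f K).isOpenMap isIrreducible_singleton).isConnected
  let π := (Z.restrictPreimage (pr f K))
  have ho : IsOpenMap π := (pr f K).isOpenMap.restrictPreimage Z
  have hs : Function.Surjective π := Z.restrictPreimage_surjective (pr f K).surjective
  have hcont : Continuous π := (pr f K).continuous.restrictPreimage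
  have hq := (ho.isQuotientMap hcont hs).isCoinducing
  haveI : ConnectedSpace Z := Subtype.connectedSpace hZ
  have h : _root_.IsConnected (π ⁻¹' Set.univ) :=
    Topology.IsCoinducing.isConnected_preimage_of_isClosed (fun z => by
      have e : Subtype.val '' (π ⁻¹' {z}) = pr f K ⁻¹' {(z : X)} := by
        ext a
        constructor
        · rintro ⟨b, hb, rfl⟩; exact congrArg Subtype.val hb
        · intro ha
          exact ⟨⟨a, show pr f K a ∈ Z from (Set.mem_preimage.mp ha : pr f K a ∈ ({(z : X)} : Set X)).symm ▸ z.2⟩, Subtype.ext ha, rfl⟩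
      refine ⟨?_, IsInducing.subtypeVal.isPreconnected_image.mp (e ▸ (hfib z).isPreconnected)⟩
      obtain ⟨a, ha⟩ := hs z
      exact ⟨a, ha⟩) hq isClosed_univ isConnected_univ
  rw [Set.preimage_univ] at h
  have h2 := h.image Subtype.val continuous_subtype_val.continuousOn
  rw [Set.image_univ, Subtype.range_coe_subtype] at h2
  exact h2

section Descent

theorem exists_compositum (K F : Type u) [Field K] [Field F] [Algebra k K] [Algebra k F] :
    ∃ (E : Type u) (_ : Field E) (a : K →+* E) (b : F →+* E),
      a.comp (algebraMap k K) = b.comp (algebraMap k F) := by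
  have : Nontrivial (K ⊗[k] F) :=
    Algebra.TensorProduct.nontrivial_of_algebraMap_injective_of_flat_left (R := k) (A := K) (B := F)
      (algebraMap k F).injective
  obtain ⟨m, hm⟩ := Ideal.exists_maximal (K ⊗[k] F)
  refine ⟨(K ⊗[k] F) ⧸ m, Ideal.Quotient.field m, (Ideal.Quotient.mk m).comp Algebra.TensorProduct.includeLeftRingHom,
    (Ideal.Quotient.mk m).comp (Algebra.TensorProduct.includeRight (R := k) (A := K) (B := F)).toRingHom, ?_⟩
  rw [RingHom.comp_assoc, RingHom.comp_assoc]
  congr 1
  exact Algebra.TensorProduct.includeLeftRingHom_comp_algebraMap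

theorem geometrically_descend (P : ObjectProperty Scheme.{u}) [P.IsClosedUnderIsomorphisms]
    (hP : ∀ {A B : Scheme.{u}} (m : A ⟶ B) [Surjective m] [Flat m], P A → P B)
    (K : Type u) [Field K] [Algebra k K]
    (h : geometrically P (pullback.snd f (Spec.map (CommRingCat.ofHom (algebraMap k K))))) :
    geometrically P f := by
  refine geometrically_iff_of_commRing_of_isClosedUnderIsomorphisms.mpr fun F _ _ => ?_
  obtain ⟨E, _, a, b, hab⟩ := exists_compositum (k := k) K F
  let sK := Spec.map (CommRingCat.ofHom (algebraMap k K))
  let sF := Spec.map (CommRingCat.ofHom (algebraMap k F))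
  let sE := Spec.map (CommRingCat.ofHom (a.comp (algebraMap k K)))
  have hK : Spec.map (CommRingCat.ofHom a) ≫ sK = sE := by
    rw [← Spec.map_comp, ← CommRingCat.ofHom_comp]
  have hF : Spec.map (CommRingCat.ofHom b) ≫ sF = sE := by
    rw [← Spec.map_comp, ← CommRingCat.ofHom_comp, ← hab]
  have h1 : P (pullback f sE) :=
    P.prop_of_iso ((pullbackLeftPullbackSndIso f sK (Spec.map (CommRingCat.ofHom a))) ≪≫ pullback.congrHom rfl hK)
      (pullback_of_geometrically h E (Spec.map (CommRingCat.ofHom a)))
  let e : pullback f sE ≅ pullback (pullback.snd f sF) (Spec.map (CommRingCat.ofHom b)) :=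
    pullback.congrHom rfl hF.symm ≪≫ (pullbackLeftPullbackSndIso f sF _).symm
  exact hP (e.hom ≫ pullback.fst _ _) h1

theorem surj_connectedSpace {A B : Scheme.{u}} (m : A ⟶ B) [Surjective m] [Flat m] (h : ConnectedSpace A) :
    ConnectedSpace B :=
  m.surjective.connectedSpace m.continuous

theorem surj_irreducibleSpace {A B : Scheme.{u}} (m : A ⟶ B) [Surjective m] [Flat m] (h : IrreducibleSpace A) :
    IrreducibleSpace B :=
  (irreducibleSpace_def B).mpr (by
    have := (IrreducibleSpace.isIrreducible_univ A).image m m.continuous.continuousOn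
    rwa [Set.image_univ, Set.range_eq_univ.mpr m.surjective] at this)

theorem surj_isReduced {A B : Scheme.{u}} (m : A ⟶ B) [Surjective m] [Flat m] (h : AlgebraicGeometry.IsReduced A) :
    AlgebraicGeometry.IsReduced B := by
  have : ∀ y : B, _root_.IsReduced (B.presheaf.stalk y) := fun y => by
    obtain ⟨x, rfl⟩ := m.surjective y
    have hfl := Flat.stalkMap m x
    algebraize [(m.stalkMap x).hom]
    have : Module.FaithfullyFlat (B.presheaf.stalk (m x)) (A.presheaf.stalk x) :=
      @Module.FaithfullyFlat.of_flat_of_isLocalHom _ _ _ _ _ _ _ hfl (m.toLRSHom.prop x)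
    exact isReduced_of_injective (m.stalkMap x).hom
      (RingHom.FaithfullyFlat.injective (f := (m.stalkMap x).hom) ‹_›)
  exact isReduced_of_isReduced_stalk B

variable (K : Type u) [Field K] [Algebra k K]

theorem gc_of_bc [GeometricallyConnected (pullback.snd f (Spec.map (CommRingCat.ofHom (algebraMap k K))))] :
    GeometricallyConnected f :=
  ⟨geometrically_descend f _ (fun m _ _ h => surj_connectedSpace m h) K
    GeometricallyConnected.geometrically_connectedSpace⟩

theorem gi_of_bc [GeometricallyIrreducible (pullback.snd f (Spec.map (CommRingCat.ofHom (algebraMap k K))))] :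
    GeometricallyIrreducible f :=
  ⟨geometrically_descend f _ (fun m _ _ h => surj_irreducibleSpace m h) K
    GeometricallyIrreducible.geometrically_irreducibleSpace⟩

theorem gr_of_bc [GeometricallyReduced (pullback.snd f (Spec.map (CommRingCat.ofHom (algebraMap k K))))] :
    GeometricallyReduced f :=
  ⟨geometrically_descend f _ (fun m _ _ h => surj_isReduced m h) K
    GeometricallyReduced.geometrically_isReduced⟩

end Descent

end SweepSix.GeomConn

end
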