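import Groth.Agent.WeightLib.Constr
import Mathlib.Topology.Spectral.ConstructibleTopology
import Mathlib.Topology.Sober

/-!
# Constructible sets in Noetherian and prespectral spaces
-/

set_option autoImplicit false
universe u v

open Topology TopologicalSpace Set

namespace SweepSix

variable {X : Type u} [TopologicalSpace X]

theorem retrocompact_of_noetherian [NoetherianSpace X] (s : Set X) : IsRetrocompact s :=
  fun _ _ _ => NoetherianSpace.isCompact _

theorem isConstructible_of_isOpen [NoetherianSpace X] {U : Set X} (hU : IsOpen U) : IsConstructible U :=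
  (retrocompact_of_noetherian U).isConstructible hU

theorem isConstructible_of_isLocallyClosed [NoetherianSpace X] {Z : Set X} (hZ : IsLocallyClosed Z) :
    IsConstructible Z := by
  obtain ⟨U, C, hU, hC, rfl⟩ := hZ
  exact (isConstructible_of_isOpen hU).inter
    (isConstructible_compl.mp (isConstructible_of_isOpen hC.isOpen_compl))

theorem exists_isLocallyClosed_pieces {s : Set X} (hs : IsConstructible s) :
    ∃ (S : Set (Set X)), S.Finite ∧ (∀ Z ∈ S, IsLocallyClosed Z) ∧ s = ⋃₀ S := by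
  induction s, hs using BooleanSubalgebra.closure_sdiff_sup_induction with
  | isSublattice =>
    exact ⟨fun s hs t ht ↦ ⟨hs.1.union ht.1, hs.2.union ht.2⟩,
      fun s hs t ht ↦ ⟨hs.1.inter ht.1, hs.2.inter_isOpen ht.2 ht.1⟩⟩
  | bot_mem => exact ⟨isOpen_empty, .empty⟩
  | top_mem => exact ⟨isOpen_univ, .univ⟩
  | sdiff U hU V hV =>
    exact ⟨{U \ V}, finite_singleton _, fun Z hZ => (mem_singleton_iff.mp hZ) ▸
      hU.1.isLocallyClosed.inter hV.1.isClosed_compl.isLocallyClosed, (sUnion_singleton _).symm⟩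
  | sup s _ t _ hs' ht' =>
    obtain ⟨S, hS, hS', rfl⟩ := hs'
    obtain ⟨T, hT, hT', rfl⟩ := ht'
    exact ⟨S ∪ T, hS.union hT, fun Z hZ => hZ.elim (hS' Z) (hT' Z), (sUnion_union S T).symm⟩

/-- an irreducible set in the closure of a locally closed set inside it has an open part in it -/
theorem exists_open_of_dense {Z : Set X} (hZ : IsIrreducible Z) {S : Set (Set X)} (hSf : S.Finite)
    (hS : ∀ L ∈ S, IsLocallyClosed L) (h : Z ⊆ closure (⋃₀ S ∩ Z)) :
    ∃ U : Set X, IsOpen U ∧ U ∩ Z ⊆ ⋃₀ S ∧ (U ∩ Z).Nonempty ∧ Z ⊆ closure (U ∩ Z) := by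
  classical
  obtain ⟨T, rfl⟩ := hSf.exists_finset_coe
  obtain ⟨_, hL', hZL⟩ := isIrreducible_iff_sUnion_isClosed.1 hZ (T.image fun L => closure (L ∩ Z))
    (fun t ht => by
      obtain ⟨L, -, rfl⟩ := Finset.mem_image.mp ht
      exact isClosed_closure) (h.trans (closure_minimal (fun x hx => by
      obtain ⟨⟨L, hL, hxL⟩, hxZ⟩ := hx
      exact ⟨_, Finset.mem_coe.mpr (Finset.mem_image_of_mem _ hL), subset_closure ⟨hxL, hxZ⟩⟩) (by
        rw [sUnion_eq_biUnion]
        exact (Finset.finite_toSet _).isClosed_biUnion fun t ht => by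
          obtain ⟨L, -, rfl⟩ := Finset.mem_image.mp (Finset.mem_coe.mp ht)
          exact isClosed_closure)))
  obtain ⟨L, hL, rfl⟩ := Finset.mem_image.mp hL'
  obtain ⟨U, C, hU, hC, rfl⟩ := hS L (Finset.mem_coe.mpr hL)
  have hZC : Z ⊆ C := hZL.trans (closure_minimal (fun x hx => hx.1.2) hC)
  obtain ⟨z, hz⟩ := hZ.1
  have hne : (U ∩ Z).Nonempty := by
    obtain ⟨y, hy⟩ := closure_nonempty_iff.mp ⟨z, hZL hz⟩
    exact ⟨y, hy.1.1, hy.2⟩
  exact ⟨U, hU, fun x hx => ⟨U ∩ C, hL, hx.1, hZC hx.2⟩, hne,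
    hZL.trans (closure_mono fun x hx => ⟨hx.1.1, hx.2⟩)⟩

section Sober

variable [NoetherianSpace X] [QuasiSober X]

theorem exists_finset_cover' {ι : Type*} (C : ι → Set X) (hC : ∀ i, IsConstructible (C i))
    (hcov : ∀ x, ∃ i, x ∈ C i) : ∃ t : Finset ι, ∀ x, ∃ i ∈ t, x ∈ C i := by
  have : QuasiSeparatedSpace X := ⟨fun _ _ _ _ _ _ => NoetherianSpace.isCompact _⟩
  exact WeightLib.exists_finset_cover C hC hcov

theorem isClosed_of_stableUnderSpecialization {E : Set X} (hE : IsConstructible E)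
    (hs : StableUnderSpecialization E) : IsClosed E := by
  rw [← closure_subset_iff_isClosed]
  intro x hx
  by_contra hxE
  -- opens at `x` and the complement of `E` cover the constructible space
  let C : Option {U : Set X // IsOpen U ∧ x ∈ U} → Set X
    | none => Eᶜ
    | some U => U.1ᶜ
  obtain ⟨t, ht⟩ := exists_finset_cover' C (fun i => by
    cases i with
    | none => exact hE.compl
    | some U => exact (isConstructible_of_isOpen U.2.1).compl) (fun y => by
    by_cases hy : y ∈ E
    · by_contra hne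
      push Not at hne
      refine hxE (hs (specializes_iff_forall_open.mpr fun U hU hxU => ?_) hy)
      exact not_not.mp (hne (some ⟨U, hU, hxU⟩))
    · exact ⟨none, hy⟩)
  classical
  let W : Set X := ⋂ U ∈ t.eraseNone, (U : Set X)
  have hW : IsOpen W := t.eraseNone.finite_toSet.isOpen_biInter fun U _ => U.2.1
  obtain ⟨y, hyW, hyE⟩ := mem_closure_iff.mp hx W hW (mem_iInter₂.mpr fun U _ => U.2.2)
  obtain ⟨i, hi, hyi⟩ := ht y
  cases i with
  | none => exact hyi hyE
  | some U => exact hyi (mem_iInter₂.mp hyW U (Finset.mem_eraseNone.mpr hi))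

theorem isOpen_of_stableUnderGeneralization {E : Set X} (hE : IsConstructible E)
    (hs : StableUnderGeneralization E) : IsOpen E := by
  rw [← isClosed_compl_iff]
  exact isClosed_of_stableUnderSpecialization hE.compl hs.compl

end Sober

theorem isRetrocompact_of_isConstructible {s : Set X} (hs : IsConstructible s) : IsRetrocompact s := by
  induction s, hs using BooleanSubalgebra.closure_sdiff_sup_induction with
  | isSublattice =>
    exact ⟨fun s hs t ht ↦ ⟨hs.1.union ht.1, hs.2.union ht.2⟩,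
      fun s hs t ht ↦ ⟨hs.1.inter ht.1, hs.2.inter_isOpen ht.2 ht.1⟩⟩
  | bot_mem => exact ⟨isOpen_empty, .empty⟩
  | top_mem => exact ⟨isOpen_univ, .univ⟩
  | sdiff U hU V hV =>
    intro W hW hWo
    have : W ∩ (U \ V) = (W ∩ U) ∩ Vᶜ := by ext; simp [and_assoc]
    rw [Set.inter_comm, this]
    exact ((Set.inter_comm W U) ▸ hU.2 hW hWo).inter_right hV.1.isClosed_compl
  | sup s _ t _ hs' ht' => exact IsRetrocompact.union hs' ht'

section Trace

variable [PrespectralSpace X]

/-- a compact open of a subspace is the trace of a compact open -/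
theorem exists_compact_open_trace {C : Set X} {K : Set C} (hK : IsCompact K) (hKo : IsOpen K) :
    ∃ W : Set X, IsOpen W ∧ IsCompact W ∧ Subtype.val ⁻¹' W = K := by
  obtain ⟨W, hW, rfl⟩ := isOpen_induced_iff.mp hKo
  have h : ∀ x : (Subtype.val ⁻¹' W : Set C), ∃ V : Set X, (IsOpen V ∧ IsCompact V) ∧ x.1.1 ∈ V ∧ V ⊆ W :=
    fun x => PrespectralSpace.isTopologicalBasis.exists_subset_of_mem_open x.2 hW
  choose V hV hxV hVW using h
  obtain ⟨t, ht⟩ := hK.elim_finite_subcover (fun x => Subtype.val ⁻¹' V x)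
    (fun x => (hV x).1.preimage continuous_subtype_val) fun x hx => mem_iUnion.mpr ⟨⟨x, hx⟩, hxV ⟨x, hx⟩⟩
  refine ⟨⋃ x ∈ t, V x, isOpen_biUnion fun x _ => (hV x).1, t.isCompact_biUnion fun x _ => (hV x).2, ?_⟩
  refine Subset.antisymm ?_ fun y hy => ?_
  · intro y hy
    obtain ⟨x, -, hxy⟩ := mem_iUnion₂.mp hy
    exact hVW x hxy
  · obtain ⟨x, hx, hxy⟩ := mem_iUnion₂.mp (ht hy)
    exact mem_iUnion₂.mpr ⟨x, hx, hxy⟩

theorem preimage_inclusion {Z C : Set X} (h : Z ⊆ C) (hZ : IsRetrocompact Z) (hC : IsRetrocompact C)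
    {E : Set C} (hE : IsConstructible E) : IsConstructible (Set.inclusion h ⁻¹' E) := by
  refine hE.preimage (continuous_inclusion h) fun R hR hRc K hK hKo => ?_
  obtain ⟨W, hW, hWc, rfl⟩ := exists_compact_open_trace hK hKo
  have hWC : IsCompact ((Subtype.val : C → X) ⁻¹' W) := by
    rw [Topology.IsEmbedding.subtypeVal.isCompact_iff, image_preimage_eq_inter_range,
      Subtype.range_coe_subtype, ofPred_mem_eq, inter_comm]
    exact hC hWc hW
  obtain ⟨A, hA, hAc, hAe⟩ := exists_compact_open_trace (hRc hWC (hW.preimage continuous_subtype_val))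
    (hR.inter (hW.preimage continuous_subtype_val))
  rw [Topology.IsEmbedding.subtypeVal.isCompact_iff]
  have himg : (Subtype.val : Z → X) '' (Set.inclusion h ⁻¹' R ∩ Subtype.val ⁻¹' W) = Z ∩ A := by
    ext x
    constructor
    · rintro ⟨z, ⟨hzR, hzW⟩, rfl⟩
      exact ⟨z.2, (Set.ext_iff.mp hAe (Set.inclusion h z)).mpr ⟨hzR, hzW⟩⟩
    · rintro ⟨hz, hxA⟩
      exact ⟨⟨x, hz⟩, (Set.ext_iff.mp hAe ⟨x, h hz⟩).mp hxA, rfl⟩
  rw [himg]
  exact hZ hAc hA

theorem preimage_val {C : Set X} (hC : IsRetrocompact C) {E : Set X} (hE : IsConstructible E) :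
    IsConstructible ((Subtype.val : C → X) ⁻¹' E) := by
  refine hE.preimage continuous_subtype_val fun R hR hRc K hK hKo => ?_
  obtain ⟨W, hW, hWc, rfl⟩ := exists_compact_open_trace hK hKo
  rw [Topology.IsEmbedding.subtypeVal.isCompact_iff]
  have himg : (Subtype.val : C → X) '' (Subtype.val ⁻¹' R ∩ Subtype.val ⁻¹' W) = C ∩ (R ∩ W) := by
    rw [← preimage_inter, Subtype.image_preimage_coe]
  rw [himg]
  exact hC (hRc hWc hW) (hR.inter hW)

theorem image_val {C : Set X} (hC : IsConstructible C) :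
    ∀ {E : Set C}, IsConstructible E → IsConstructible ((Subtype.val : C → X) '' E) := by
  induction C, hC using BooleanSubalgebra.closure_sdiff_sup_induction with
  | isSublattice =>
    exact ⟨fun s hs t ht ↦ ⟨hs.1.union ht.1, hs.2.union ht.2⟩,
      fun s hs t ht ↦ ⟨hs.1.inter ht.1, hs.2.inter_isOpen ht.2 ht.1⟩⟩
  | bot_mem => exact ⟨isOpen_empty, .empty⟩
  | top_mem => exact ⟨isOpen_univ, .univ⟩
  | sdiff U hU V hV =>
    intro E hE
    let f : (U \ V : Set X) → U := Set.inclusion sdiff_subset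
    have hr : range f = (Subtype.val ⁻¹' V)ᶜ := by
      rw [Set.range_inclusion sdiff_subset]
      ext x
      simp
    have hf : IsClosedEmbedding f :=
      ⟨IsEmbedding.inclusion _, by rw [hr]; exact (hV.1.preimage continuous_subtype_val).isClosed_compl⟩
    have h1 : IsConstructible (f '' E) := hE.image_of_isClosedEmbedding hf (by
      rw [hr, compl_compl]
      exact hV.2.preimage_of_isOpenEmbedding hU.1.isOpenEmbedding_subtypeVal)
    have h2 := h1.image_of_isOpenEmbedding hU.1.isOpenEmbedding_subtypeVal (by simpa using hU.2)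
    rwa [image_image] at h2
  | sup s hs t ht hs' ht' =>
    intro E hE
    have hst : IsRetrocompact (s ∪ t) :=
      isRetrocompact_of_isConstructible (IsConstructible.union hs ht)
    have h1 := hs' (preimage_inclusion (C := s ∪ t) subset_union_left (isRetrocompact_of_isConstructible hs) hst hE)
    have h2 := ht' (preimage_inclusion (C := s ∪ t) subset_union_right (isRetrocompact_of_isConstructible ht) hst hE)
    convert h1.union h2 using 1
    ext x
    constructor
    · rintro ⟨⟨y, hy⟩, hyE, rfl⟩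
      exact hy.elim (fun h => Or.inl ⟨⟨y, h⟩, hyE, rfl⟩) (fun h => Or.inr ⟨⟨y, h⟩, hyE, rfl⟩)
    · rintro (⟨y, hyE, rfl⟩ | ⟨y, hyE, rfl⟩)
      · exact ⟨_, hyE, rfl⟩
      · exact ⟨_, hyE, rfl⟩

end Trace

end SweepSix
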