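import Groth.Prelude
import Groth.Agent.QCohLib.Push
import Groth.Agent.QCohLib.QCoh
import Groth.Agent.SweepSix.TildePull

universe u
open CategoryTheory CategoryTheory.Limits AlgebraicGeometry Opposite

namespace SweepSix.ConormalSpec

theorem isQCoh_idealMod {X : Scheme.{u}} (I : X.IdealSheafData) :
    Coh.IsQCoh (ClSub.idealMod I) := by
  have : Coh.IsQCoh (Coh.structureModule X) := QCohLib.isQCoh_unit
  have : Coh.IsQCoh (Coh.structureModule I.subscheme) := QCohLib.isQCoh_unit
  have : Coh.IsQCoh ((Scheme.Modules.pushforward I.subschemeι).obj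
      (Coh.structureModule I.subscheme)) := QCohLib.isQCoh_pushforward _ _
  exact QCohLib.isQCoh_kernel _

variable {P : Scheme.{u}} {B A : CommRingCat.{u}} (e : Spec B ⟶ P) [IsIso e] (φ : B ⟶ A)

/-- A global section of the pulled back ideal module, as an element of the ring. -/
noncomputable def toRing (J : P.IdealSheafData)
    (n : Γ((ClSub.idealMod J).restrict e, ⊤)) : B :=
  (Scheme.ΓSpecIso B).hom ((e.appIso ⊤).hom (OmegaSh.fnSect P (e ''ᵁ ⊤)
    ((ClSub.idealModι J).app (e ''ᵁ ⊤) (((ClSub.idealMod J).restrictAppIso e ⊤).hom n))))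

theorem toRing_add (J : P.IdealSheafData) (n m : Γ((ClSub.idealMod J).restrict e, ⊤)) :
    toRing e J (n + m) = toRing e J n + toRing e J m := by
  simp only [toRing, map_add]

theorem toRing_smul (J : P.IdealSheafData) (r : B)
    (n : Γ((ClSub.idealMod J).restrict e, ⊤)) :
    toRing e J (r • n) = r * toRing e J n := by
  have htop : (Spec B).presheaf.map (⊤ : (Spec B).Opens).leTop.op = 𝟙 _ :=
    (congrArg _ (Subsingleton.elim _ (𝟙 _))).trans ((Spec B).presheaf.map_id _)
  rw [toRing, Scheme.Modules.smul_Spec_def, htop]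
  erw [Scheme.Modules.smul_restrictAppIso_hom_apply, Scheme.Modules.Hom.app_smul]
  change (Scheme.ΓSpecIso B).hom ((e.appIso ⊤).hom
    ((e.appIso ⊤).inv ((Scheme.ΓSpecIso B).inv r) * _)) = _
  simp only [map_mul, Iso.inv_hom_id_apply]
  rfl

/-- `toRing` as a linear map. -/
noncomputable def toRingₗ (J : P.IdealSheafData) :
    (moduleSpecΓFunctor (R := B)).obj ((ClSub.idealMod J).restrict e) →ₗ[B] B where
  toFun := toRing e J
  map_add' := toRing_add e J
  map_smul' := toRing_smul e J

theorem toRingₗ_injective (J : P.IdealSheafData) : Function.Injective (toRingₗ e J) := by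
  intro a b h
  have h' := (ConcreteCategory.bijective_of_isIso (e.appIso ⊤).hom).1
    ((ConcreteCategory.bijective_of_isIso (Scheme.ΓSpecIso B).hom).1 h)
  exact (ConcreteCategory.bijective_of_isIso ((ClSub.idealMod J).restrictAppIso e ⊤).hom).1
    (OmegaSh.idealModι_app_injective _ J h')

instance : QuasiCompact (Spec.map φ ≫ e) := inferInstance

theorem mem_range_toRingₗ (x : B) :
    x ∈ LinearMap.range (toRingₗ e (Spec.map φ ≫ e).ker) ↔ φ x = 0 := by
  let J := (Spec.map φ ≫ e).ker
  let W : P.affineOpens := ⟨e ''ᵁ ⊤, (isAffineOpen_top (Spec B)).image_of_isOpenImmersion e⟩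
  let y : Γ(P, W.1) := (e.appIso ⊤).inv ((Scheme.ΓSpecIso B).inv x)
  have hy : y ∈ J.ideal W ↔ φ x = 0 := by
    have hpre : (Spec.map φ ≫ e) ⁻¹ᵁ W.1 = ⊤ := by
      rw [Scheme.Hom.comp_preimage]
      simp [W, e.preimage_image_eq]
    have h1 : (Spec.map φ ≫ e).app W.1 y = 0 ↔
        (Spec.map φ ≫ e).appLE W.1 ⊤ hpre.ge y = 0 := by
      rw [Scheme.Hom.appLE, ConcreteCategory.comp_apply]
      have : IsIso ((Spec A).presheaf.map (homOfLE hpre.ge).op) := by
        rw [show (homOfLE hpre.ge) = eqToHom hpre.symm from Subsingleton.elim _ _]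
        infer_instance
      exact (map_eq_zero_iff _ (ConcreteCategory.bijective_of_isIso
        ((Spec A).presheaf.map (homOfLE hpre.ge).op)).1).symm
    have h2 : (Spec.map φ ≫ e).appLE W.1 ⊤ hpre.ge y =
        (Scheme.ΓSpecIso A).inv (φ x) := by
      rw [← Scheme.Hom.appLE_comp_appLE (Spec.map φ) e W.1 ⊤ ⊤ (by simp [W, e.preimage_image_eq])
        (by simp), ConcreteCategory.comp_apply]
      have : e.appLE W.1 ⊤ (by simp [W, e.preimage_image_eq]) y = (Scheme.ΓSpecIso B).inv x := by
        rw [← Scheme.Hom.appIso_hom']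
        exact Iso.inv_hom_id_apply _ _
      rw [this]
      change ((Spec.map φ).app ⊤ ≫ (Spec A).presheaf.map _) _ = _
      rw [show (homOfLE _ : (⊤ : (Spec A).Opens) ⟶ (Spec.map φ) ⁻¹ᵁ ⊤).op = 𝟙 (op ⊤) from
        Subsingleton.elim _ _]
      erw [CategoryTheory.Functor.map_id, Category.comp_id]
      exact congr($((Scheme.ΓSpecIso_inv_naturality φ).symm) x)
    rw [Scheme.Hom.ker_apply, RingHom.mem_ker, h1, h2]
    exact map_eq_zero_iff _ (ConcreteCategory.bijective_of_isIso (Scheme.ΓSpecIso A).inv).1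
  constructor
  · rintro ⟨n, rfl⟩
    apply hy.mp
    rw [← Scheme.IdealSheafData.ker_subschemeι_app, RingHom.mem_ker]
    have hy' : y = OmegaSh.fnSect P W.1 ((ClSub.idealModι J).app W.1
        (((ClSub.idealMod J).restrictAppIso e ⊤).hom n)) := by
      simp only [y, toRingₗ, toRing, LinearMap.coe_mk, AddHom.coe_mk, Iso.hom_inv_id_apply]
      rfl
    rw [hy']
    exact congr($(congrArg (fun t => Scheme.Modules.Hom.app t W.1)
      (kernel.condition (ClSub.toSubscheme J))) (((ClSub.idealMod J).restrictAppIso e ⊤).hom n))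
  · intro hx
    have h0 : (ClSub.toSubscheme J).app W.1 (OmegaSh.strSect P W.1 y) = 0 := by
      rw [OmegaSh.toSubscheme_app_strSect]
      have h := hy.mpr hx
      rw [← Scheme.IdealSheafData.ker_subschemeι_app, RingHom.mem_ker] at h
      exact h
    refine ⟨((ClSub.idealMod J).restrictAppIso e ⊤).inv
      (OmegaSh.kerLift _ W.1 (OmegaSh.strSect P W.1 y) h0), ?_⟩
    change toRing e J _ = x
    rw [toRing]
    erw [Iso.inv_hom_id_apply, OmegaSh.ι_kerLift]
    change (Scheme.ΓSpecIso B).hom ((e.appIso ⊤).hom y) = x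
    simp [y]

/-- The kernel of a ring map as a module. -/
noncomputable def kerMod : ModuleCat.{u} B := ModuleCat.of B (RingHom.ker φ.hom)

theorem nonempty_kerMod_iso :
    Nonempty ((moduleSpecΓFunctor (R := B)).obj
      ((ClSub.idealMod (Spec.map φ ≫ e).ker).restrict e) ≅ kerMod φ) := by
  refine ⟨((LinearEquiv.ofInjective _ (toRingₗ_injective e _)).trans
    (LinearEquiv.ofEq _ _ ?_)).toModuleIso⟩
  ext x
  exact (mem_range_toRingₗ e φ x).trans RingHom.mem_ker.symm

/-- The conormal sheaf of a morphism of affine schemes. -/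
theorem nonempty_conormal_iso : Nonempty (Omega.conormal (Spec.map φ ≫ e) ≅
    tilde ((ModuleCat.extendScalars φ.hom).obj (kerMod φ))) := by
  obtain ⟨k⟩ := nonempty_kerMod_iso e φ
  let J := (Spec.map φ ≫ e).ker
  have : ((ClSub.idealMod J).restrict e).IsQuasicoherent :=
    @Scheme.Modules.isQuasicoherent_restrictFunctor _ _ e _ _ (isQCoh_idealMod J)
  let i1 : (Scheme.Modules.pullback e).obj (ClSub.idealMod J) ≅ tilde (kerMod φ) :=
    ((Scheme.Modules.restrictFunctorIsoPullback e).app _).symm ≪≫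
      (@asIso _ _ _ _ _ (Scheme.Modules.isIso_fromTildeΓ_of_isQuasicoherent _)).symm ≪≫
      (tilde.functor B).mapIso k
  exact ⟨((Scheme.Modules.pullbackComp (Spec.map φ) e).app (ClSub.idealMod J)).symm ≪≫
    (Scheme.Modules.pullback (Spec.map φ)).mapIso i1 ≪≫ (tildePullIso φ).app (kerMod φ)⟩

end SweepSix.ConormalSpec
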