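import Groth.Agent.HopfFFLib.Nilradical
import Groth.Agent.AlgSpLib.ReducedStalk
import Groth.Agent.SweepSix.GeomConn

/-!
# Reducedness and integrality under extension of the ground field
-/

set_option autoImplicit false
universe u

open CategoryTheory CategoryTheory.Limits AlgebraicGeometry TensorProduct

noncomputable section

namespace SweepSix.FieldsRed

open ConnBC

theorem isReduced_tensor_of_geomRed (k k' F : Type u) [Field k] [Field k'] [Field F] [Algebra k k'] [Algebra k F]
    [Algebra.IsGeometricallyReduced k k'] : _root_.IsReduced (k' ⊗[k] F) := by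
  let kb := AlgebraicClosure k
  let Fb := AlgebraicClosure F
  let ι : kb →ₐ[k] Fb := IsAlgClosed.lift
  let : Algebra kb Fb := ι.toRingHom.toAlgebra
  have : IsScalarTower k kb Fb := IsScalarTower.of_algebraMap_eq fun x => (ι.commutes x).symm
  have : _root_.IsReduced (kb ⊗[k] k') := (Algebra.isGeometricallyReduced_field_iff k k').mp inferInstance
  have : _root_.IsReduced (Fb ⊗[kb] (kb ⊗[k] k')) :=
    Groth.Agent.HopfFF.isReduced_tensor_of_perfectField kb Fb (kb ⊗[k] k')
  have : _root_.IsReduced (Fb ⊗[k] k') :=
    isReduced_of_injective (Algebra.TensorProduct.cancelBaseChange k kb kb Fb k').symm (AlgEquiv.injective _)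
  exact isReduced_of_injective
    ((Algebra.TensorProduct.comm k k' Fb).toAlgHom.comp
      (Algebra.TensorProduct.map (AlgHom.id k k') (IsScalarTower.toAlgHom k F Fb)))
    ((Algebra.TensorProduct.comm k k' Fb).injective.comp
      (Module.Flat.lTensor_preserves_injective_linearMap (M := k') (IsScalarTower.toAlgHom k F Fb).toLinearMap
        (algebraMap F Fb).injective))

variable {k : Type u} [Field k]

theorem gr_specMap {K : Type u} [Field K] [Algebra k K]
    (h : ∀ (F : Type u) [Field F] [Algebra k F], _root_.IsReduced (K ⊗[k] F)) :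
    GeometricallyReduced (Spec.map (CommRingCat.ofHom (algebraMap k K))) := by
  refine ⟨geometrically_iff_of_commRing_of_isClosedUnderIsomorphisms.mpr fun F _ _ => ?_⟩
  have := h F
  exact isReduced_of_isOpenImmersion (pullbackSpecIso k K F).hom

theorem gr_specMap_of_perfect [PerfectField k] (K : Type u) [Field K] [Algebra k K] :
    GeometricallyReduced (Spec.map (CommRingCat.ofHom (algebraMap k K))) :=
  gr_specMap fun F _ _ => Groth.Agent.HopfFF.isReduced_tensor_of_perfectField k K F

theorem gr_specMap_of_geomRed (K : Type u) [Field K] [Algebra k K] [Algebra.IsGeometricallyReduced k K] :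
    GeometricallyReduced (Spec.map (CommRingCat.ofHom (algebraMap k K))) :=
  gr_specMap fun F _ _ => isReduced_tensor_of_geomRed k K F

variable {X : Scheme.{u}} (f : X ⟶ Spec (CommRingCat.of k))

theorem isIso_stalkMap {Y Z : Scheme.{u}} (g : Y ⟶ Z) [Flat g] [IsPreimmersion g] (y : Y) :
    Function.Bijective (g.stalkMap y) := by
  have h := Flat.stalkMap g y
  refine ⟨?_, g.stalkMap_surjective y⟩
  algebraize [(g.stalkMap y).hom]
  have : Module.FaithfullyFlat (Z.presheaf.stalk (g y)) (Y.presheaf.stalk y) :=
    @Module.FaithfullyFlat.of_flat_of_isLocalHom _ _ _ _ _ _ _ h (g.toLRSHom.prop y)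
  exact RingHom.FaithfullyFlat.injective (f := (g.stalkMap y).hom) ‹_›

/-- the local ring at a point of `X_K` is a local ring of `O_{X,x} ⊗ K` -/
theorem exists_stalk_chart (x : X) (K : Type u) [Field K] [Algebra k K] (x' : BC f K) (hx : pr f K x' = x) :
    ∃ (_ : Algebra k (X.presheaf.stalk x)) (w : Spec (CommRingCat.of (X.presheaf.stalk x ⊗[k] K))),
      Nonempty ((BC f K).presheaf.stalk x' ≃+*
        (Spec (CommRingCat.of (X.presheaf.stalk x ⊗[k] K))).presheaf.stalk w) := by
  obtain ⟨φ, hφ⟩ := Spec.map_surjective (X.fromSpecStalk x ≫ f)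
  let := φ.hom.toAlgebra
  let R := X.presheaf.stalk x
  let sK := Spec.map (CommRingCat.ofHom (algebraMap k K))
  let sR : Spec (CommRingCat.of R) ⟶ Spec (CommRingCat.of k) := Spec.map (CommRingCat.ofHom (algebraMap k R))
  have hR : X.fromSpecStalk x ≫ f = sR := hφ.symm
  have := AlgSpLib.flat_fromSpecStalk x
  let m : pullback sR sK ⟶ pullback f sK :=
    pullback.map _ _ _ _ (X.fromSpecStalk x) (𝟙 _) (𝟙 _) (by simp [hR]) (by simp)
  have sq : IsPullback m (pullback.fst sR sK) (pullback.fst f sK) (X.fromSpecStalk x) := by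
    refine (IsPullback.of_bot (v₂₁ := pullback.snd f sK) (h₃₁ := sK) (v₂₂ := f) ?_
      (pullback.lift_fst _ _ _).symm (IsPullback.of_hasPullback f sK)).flip
    rw [show m ≫ pullback.snd f sK = pullback.snd sR sK from
      (pullback.lift_snd _ _ _).trans (Category.comp_id _), hR]
    exact IsPullback.of_hasPullback sR sK
  haveI : Flat m := MorphismProperty.of_isPullback sq.flip ‹_›
  haveI : IsPreimmersion m := MorphismProperty.of_isPullback sq.flip inferInstance
  obtain ⟨v, hv, -⟩ := Scheme.exists_preimage_of_isPullback sq x' (IsLocalRing.closedPoint R)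
    (hx.trans Scheme.fromSpecStalk_closedPoint.symm)
  let e : pullback sR sK ≅ Spec (CommRingCat.of (R ⊗[k] K)) := pullbackSpecIso k R K
  subst hv
  refine ⟨inferInstance, e.hom v, ⟨(RingEquiv.ofBijective (m.stalkMap v).hom (isIso_stalkMap m v)).trans
    (asIso (e.hom.stalkMap v)).commRingCatIsoToRingEquiv.symm⟩⟩

theorem isReduced_stalk_of_perfect [PerfectField k] (x : X) (h : _root_.IsReduced (X.presheaf.stalk x))
    (K : Type u) [Field K] [Algebra k K] (x' : BC f K) (hx : pr f K x' = x) :
    _root_.IsReduced ((BC f K).presheaf.stalk x') := by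
  obtain ⟨_, w, ⟨e⟩⟩ := exists_stalk_chart f x K x' hx
  have := Groth.Agent.HopfFF.isReduced_tensor_of_perfectField k (X.presheaf.stalk x) K
  exact isReduced_of_injective e e.injective

theorem isDomain_stalk_of_isAlgClosed [IsAlgClosed k] (x : X) (h : IsDomain (X.presheaf.stalk x))
    (K : Type u) [Field K] [Algebra k K] (x' : BC f K) (hx : pr f K x' = x) :
    IsDomain ((BC f K).presheaf.stalk x') := by
  obtain ⟨_, w, ⟨e⟩⟩ := exists_stalk_chart f x K x' hx
  have h0 := isDomain_tensor (k := k) K (X.presheaf.stalk x)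
  have : IsDomain (CommRingCat.of (X.presheaf.stalk x ⊗[k] K) : CommRingCat.{u}) :=
    Function.Injective.isDomain (Algebra.TensorProduct.comm k (X.presheaf.stalk x) K).toRingEquiv.toRingHom
      (Algebra.TensorProduct.comm k (X.presheaf.stalk x) K).injective
  have : IsIntegral (Spec (CommRingCat.of (X.presheaf.stalk x ⊗[k] K))) := inferInstance
  have : IsDomain ((Spec (CommRingCat.of (X.presheaf.stalk x ⊗[k] K))).presheaf.stalk w) := inferInstance
  exact Function.Injective.isDomain e.toRingHom e.injective

end SweepSix.FieldsRed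

end
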