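import Mathlib.AlgebraicGeometry.FunctionField
import Mathlib.AlgebraicGeometry.Morphisms.Integral
import Mathlib.AlgebraicGeometry.Morphisms.Separated
import Mathlib.RingTheory.LocalProperties.IntegrallyClosed
import Groth.Prelude.Def_Pi1

/-!
# Sections of integral morphisms over normal schemes
-/

set_option autoImplicit false
universe u

open CategoryTheory CategoryTheory.Limits AlgebraicGeometry TopologicalSpace Opposite

noncomputable section

namespace SweepSix.NormSect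

theorem isIntegrallyClosed_of_stalk {X : Scheme.{u}} [IsIntegral X] {V : X.Opens} (hV : IsAffineOpen V)
    [Nonempty V] (hX : Pi1.IsNormalScheme X) : IsIntegrallyClosed Γ(X, V) := by
  refine IsIntegrallyClosed.of_localization_maximal fun p _ _ => ?_
  let y : PrimeSpectrum Γ(X, V) := ⟨p, inferInstance⟩
  have hy : hV.fromSpec y ∈ V := hV.range_fromSpec.le ⟨y, rfl⟩
  let := TopCat.Presheaf.algebra_section_stalk X.presheaf (⟨hV.fromSpec y, hy⟩ : V)
  have hloc : IsLocalization.AtPrime (X.presheaf.stalk (hV.fromSpec y)) p :=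
    hV.isLocalization_stalk' y hy
  have := (hX (hV.fromSpec y)).2
  exact IsIntegrallyClosed.of_equiv
    (IsLocalization.algEquiv p.primeCompl (X.presheaf.stalk (hV.fromSpec y))
      (Localization.AtPrime p)).toRingEquiv

theorem lift {V Z : Scheme.{u}} [IsIntegral V] [IsAffine V] [IsAffine Z]
    (hV : IsIntegrallyClosed Γ(V, ⊤)) (g : Z ⟶ V) [IsIntegralHom g] (W : V.Opens)
    (hW : (W : Set V).Nonempty) (t : (W : Scheme.{u}) ⟶ Z) (ht : t ≫ g = W.ι) :
    ∃ σ : V ⟶ Z, σ ≫ g = 𝟙 V ∧ W.ι ≫ σ = t := by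
  have hη : genericPoint V ∈ W := (genericPoint_spec V).mem_open_set_iff W.2 |>.mpr (by simpa using hW)
  let K := V.functionField
  let a : Γ(V, ⊤) ⟶ K := V.presheaf.germ ⊤ (genericPoint V) trivial
  let b : Γ(W, ⊤) ⟶ K := W.topIso.hom ≫ V.presheaf.germ W (genericPoint V) hη
  let ψ : Γ(Z, ⊤) ⟶ K := t.appTop ≫ b
  have hab : W.ι.appTop ≫ b = a := by
    simp [a, b]
    erw [V.presheaf.germ_res, V.presheaf.germ_res]
  have hga : g.appTop ≫ ψ = a := by
    rw [← hab, ← ht, Scheme.Hom.comp_appTop, Category.assoc]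
  have ha : Function.Injective a := germ_injective_of_isIntegral V (U := ⊤) _ (Opens.mem_top _)
  have hb : Function.Injective b := by
    intro x y hxy
    exact W.topIso.commRingCatIsoToRingEquiv.injective (germ_injective_of_isIntegral V _ hη hxy)
  have : Nonempty (⊤ : V.Opens) := ⟨⟨genericPoint V, trivial⟩⟩
  have : IsFractionRing Γ(V, ⊤) K := functionField_isFractionRing_of_isAffineOpen V ⊤ (isAffineOpen_top V)
  have hmem : ∀ z, ∃ r, a r = ψ z := fun z => by
    obtain ⟨p, hp, hpz⟩ := g.isIntegral_app ⊤ (isAffineOpen_top V) z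
    refine (IsIntegrallyClosed.isIntegral_iff (R := Γ(V, ⊤)) (K := K)).mp ⟨p, hp, ?_⟩
    have h := Polynomial.hom_eval₂ p g.appTop.hom ψ.hom z
    have e : ψ.hom.comp g.appTop.hom = algebraMap Γ(V, ⊤) K := congrArg CommRingCat.Hom.hom hga
    rw [e] at h
    exact h.symm.trans ((congrArg ψ hpz).trans (map_zero ψ.hom))
  choose r hr using hmem
  let φ : Γ(Z, ⊤) ⟶ Γ(V, ⊤) := CommRingCat.ofHom
    { toFun := r
      map_one' := ha (by rw [hr, map_one, map_one])
      map_mul' := fun x y => ha (by rw [map_mul, hr, hr, hr, map_mul])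
      map_zero' := ha (by rw [hr, map_zero, map_zero])
      map_add' := fun x y => ha (by rw [map_add, hr, hr, hr, map_add]) }
  have hφa : φ ≫ a = ψ := CommRingCat.hom_ext (RingHom.ext hr)
  let σ : V ⟶ Z := V.toSpecΓ ≫ Spec.map φ ≫ Z.isoSpec.inv
  have hσ : σ.appTop = φ := by
    simp [σ, Scheme.isoSpec]
  refine ⟨σ, ext_of_isAffine ?_, ext_of_isAffine ?_⟩
  · rw [Scheme.Hom.comp_appTop, hσ, Scheme.Hom.id_appTop]
    refine CommRingCat.hom_ext (RingHom.ext fun x => ha ?_)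
    have := congr($hga x)
    exact (hr (g.appTop x)).trans this
  · rw [Scheme.Hom.comp_appTop, hσ]
    refine CommRingCat.hom_ext (RingHom.ext fun x => hb ?_)
    have h1 := congr($hab (φ x))
    exact h1.trans (hr x)

theorem section_unique {X X' T : Scheme.{u}} [IsReduced T] (g : X' ⟶ X) [IsSeparated g] (k : T ⟶ X)
    (hk : IsOpenMap k) (U : X.Opens) (hU : Dense (U : Set X)) (a b : T ⟶ X')
    (ha : a ≫ g = k) (hb : b ≫ g = k) (hab : (k ⁻¹ᵁ U).ι ≫ a = (k ⁻¹ᵁ U).ι ≫ b) : a = b := by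
  have : IsDominant (k ⁻¹ᵁ U).ι := by
    rw [isDominant_iff, DenseRange, show Set.range (k ⁻¹ᵁ U).ι = k ⁻¹' (U : Set X) from
      Scheme.Opens.range_ι _]
    exact hU.preimage hk
  exact ext_of_isDominant_of_isSeparated g (ha.trans hb.symm) (k ⁻¹ᵁ U).ι hab

theorem exists_section {X X' : Scheme.{u}} [IsIntegral X] (hX : Pi1.IsNormalScheme X) (g : X' ⟶ X)
    [IsIntegralHom g] (U : X.Opens) (hU : Dense (U : Set X)) (s : (U : Scheme.{u}) ⟶ X')
    (hs : s ≫ g = U.ι) : ∃ s' : X ⟶ X', s' ≫ g = 𝟙 X ∧ U.ι ≫ s' = s := by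
  have hloc : ∀ x : X, ∃ (V : X.Opens) (σ : (V : Scheme.{u}) ⟶ X') (_ : x ∈ V), σ ≫ g = V.ι ∧
      (V.ι ⁻¹ᵁ U).ι ≫ σ = IsOpenImmersion.lift U.ι ((V.ι ⁻¹ᵁ U).ι ≫ V.ι)
        (by rintro _ ⟨p, rfl⟩; rw [Scheme.Opens.range_ι]; exact p.2) ≫ s := by
    intro x
    obtain ⟨V, hV, hxV, -⟩ := exists_isAffineOpen_mem_and_subset (U := (⊤ : X.Opens)) (x := x) trivial
    have : Nonempty V := ⟨⟨x, hxV⟩⟩
    have : IsAffine V := hV
    have : IsAffine (g ⁻¹ᵁ V : X'.Opens) := hV.preimage g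
    have : IsIntegral V := isIntegral_of_isOpenImmersion V.ι
    have : IsIntegralHom (g ∣_ V) := IsZariskiLocalAtTarget.restrict ‹IsIntegralHom g› V
    have hic := isIntegrallyClosed_of_stalk hV hX
    have hic' : IsIntegrallyClosed Γ(V, ⊤) :=
      IsIntegrallyClosed.of_equiv V.topIso.symm.commRingCatIsoToRingEquiv
    obtain ⟨y, hyV, hyU⟩ := hU.inter_open_nonempty V V.2 ⟨x, hxV⟩
    let W := V.ι ⁻¹ᵁ U
    let m : (W : Scheme.{u}) ⟶ U := IsOpenImmersion.lift U.ι (W.ι ≫ V.ι)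
      (by rintro _ ⟨p, rfl⟩; rw [Scheme.Opens.range_ι]; exact p.2)
    have hm : (m ≫ s) ≫ g = W.ι ≫ V.ι := by
      rw [Category.assoc, hs, IsOpenImmersion.lift_fac]
    obtain ⟨σ, hσ, hσW⟩ := lift hic' (g ∣_ V) W ⟨⟨y, hyV⟩, hyU⟩
      ((isPullback_morphismRestrict g V).lift W.ι (m ≫ s) hm.symm) (IsPullback.lift_fst _ _ _ _)
    refine ⟨V, σ ≫ (g ⁻¹ᵁ V).ι, hxV, ?_, ?_⟩
    · rw [Category.assoc, ← morphismRestrict_ι, reassoc_of% hσ]
    · rw [← Category.assoc, hσW, IsPullback.lift_snd]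
  choose V σ hxV hσg hσU using hloc
  let 𝒰 : X.OpenCover := X.openCoverOfIsOpenCover V
    (IsOpenCover.mk (eq_top_iff.mpr fun x _ => Opens.mem_iSup.mpr ⟨x, hxV x⟩))
  have key : ∀ (T : Scheme.{u}) [IsReduced T] (k : T ⟶ X) (_ : IsOpenMap k) (i : X)
      (p : T ⟶ V i) (hp : p ≫ (V i).ι = k) (W : T.Opens) (_ : W ≤ k ⁻¹ᵁ U) (q : (W : Scheme.{u}) ⟶ U),
      q ≫ U.ι = W.ι ≫ k → W.ι ≫ p ≫ σ i = q ≫ s := by
    intro T _ k _ i p hp W hW q hq
    have hr : Set.range (W.ι ≫ p) ⊆ Set.range ((V i).ι ⁻¹ᵁ U).ι := by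
      rintro _ ⟨w, rfl⟩
      rw [Scheme.Opens.range_ι]
      have := hW w.2
      rw [← hp] at this
      exact this
    rw [← Category.assoc, ← IsOpenImmersion.lift_fac ((V i).ι ⁻¹ᵁ U).ι (W.ι ≫ p) hr, Category.assoc,
      hσU i, ← Category.assoc]
    congr 1
    rw [← cancel_mono U.ι, hq, Category.assoc, IsOpenImmersion.lift_fac, IsOpenImmersion.lift_fac_assoc,
      Category.assoc, hp]
  have hred : ∀ i j, IsReduced (pullback (V i).ι (V j).ι) := fun i j =>
    isReduced_of_isOpenImmersion (pullback.fst (V i).ι (V j).ι ≫ (V i).ι)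
  let F : X ⟶ X' := 𝒰.glueMorphisms σ fun i j => by
    have := hred i j
    let k := pullback.fst (V i).ι (V j).ι ≫ (V i).ι
    have hk : IsOpenMap k := k.isOpenEmbedding.isOpenMap
    refine section_unique g k hk U hU _ _ ((Category.assoc _ _ _).trans (congrArg _ (hσg i)))
      ((Category.assoc _ _ _).trans ((congrArg _ (hσg j)).trans pullback.condition.symm)) ?_
    let q := IsOpenImmersion.lift U.ι ((k ⁻¹ᵁ U).ι ≫ k) (by rintro _ ⟨p, rfl⟩; rw [Scheme.Opens.range_ι]; exact p.2)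
    have hq : q ≫ U.ι = (k ⁻¹ᵁ U).ι ≫ k := IsOpenImmersion.lift_fac _ _ _
    exact (key _ k hk i _ rfl _ le_rfl q hq).trans
      (key _ k hk j _ pullback.condition.symm _ le_rfl q hq).symm
  have hF : ∀ i, (V i).ι ≫ F = σ i := fun i => 𝒰.ι_glueMorphisms σ _ i
  refine ⟨F, 𝒰.hom_ext _ _ fun i => ?_, ?_⟩
  · exact (Category.assoc _ _ _).symm.trans ((congrArg (· ≫ g) (hF i)).trans
      ((hσg i).trans (Category.comp_id _).symm))
  · refine (Scheme.Cover.hom_ext (𝒰.pullback₁ U.ι) _ _ fun i => ?_)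
    change pullback.fst U.ι (V i).ι ≫ U.ι ≫ F = pullback.fst U.ι (V i).ι ≫ s
    rw [pullback.condition_assoc, hF i]
    have : IsReduced (U : Scheme.{u}) := isReduced_of_isOpenImmersion U.ι
    have : IsReduced (pullback U.ι (V i).ι) := isReduced_of_isOpenImmersion (pullback.fst U.ι (V i).ι)
    let k := pullback.fst U.ι (V i).ι ≫ U.ι
    have hk : IsOpenMap k := k.isOpenEmbedding.isOpenMap
    refine section_unique g k hk U hU _ _
      ((Category.assoc _ _ _).trans ((congrArg _ (hσg i)).trans pullback.condition.symm))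
      ((Category.assoc _ _ _).trans (congrArg _ hs)) ?_
    exact (key _ k hk i _ pullback.condition.symm _ le_rfl ((k ⁻¹ᵁ U).ι ≫ pullback.fst _ _)
      (Category.assoc _ _ _)).trans (Category.assoc _ _ _)

end SweepSix.NormSect

end
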