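import Groth.Agent.SweepSix.FlatCancel
import Mathlib

/-!
# Weakly etale morphisms are formally unramified
-/

set_option autoImplicit false
universe u

open CategoryTheory CategoryTheory.Limits AlgebraicGeometry TensorProduct

namespace SweepSix

theorem ker_idempotent_of_flat {S T : Type u} [CommRing S] [CommRing T] [Algebra S T]
    (hs : Function.Surjective (algebraMap S T)) [Module.Flat S T] :
    IsIdempotentElem (RingHom.ker (algebraMap S T)) := by
  set I := RingHom.ker (algebraMap S T)
  refine le_antisymm Ideal.mul_le_left fun x hx => ?_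
  let e : (S ⧸ I) ≃ₗ[S] T :=
    (Ideal.quotientKerAlgEquivOfSurjective (f := Algebra.ofId S T) hs).toLinearEquiv
  have : Module.Flat S (S ⧸ I) := Module.Flat.of_linearEquiv e
  have hinj := Module.Flat.lTensor_preserves_injective_linearMap (M := S ⧸ I) I.subtype I.injective_subtype
  have h0 : (1 : S ⧸ I) ⊗ₜ[S] (⟨x, hx⟩ : I) = 0 := hinj (by
    rw [LinearMap.lTensor_tmul, map_zero, Submodule.coe_subtype]
    have : x • (1 : S ⧸ I) = 0 := Ideal.Quotient.eq_zero_iff_mem.2 (by simpa using hx)
    show (1 : S ⧸ I) ⊗ₜ[S] x = 0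
    rw [show (1 : S ⧸ I) ⊗ₜ[S] x = (1 : S ⧸ I) ⊗ₜ[S] (x • (1 : S)) by rw [smul_eq_mul, mul_one],
      TensorProduct.tmul_smul, TensorProduct.smul_tmul', this, TensorProduct.zero_tmul])
  have h1 := congrArg (TensorProduct.quotTensorEquivQuotSMul I I) h0
  rw [map_zero, show (1 : S ⧸ I) = Ideal.Quotient.mk I 1 from rfl,
    TensorProduct.quotTensorEquivQuotSMul_mk_tmul, one_smul, Submodule.Quotient.mk_eq_zero] at h1
  have hmap := Submodule.mem_map_of_mem (f := I.subtype) h1
  rw [Submodule.map_smul'', Submodule.map_top, Submodule.range_subtype] at hmap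
  exact hmap

theorem formallyUnramified_of_flat_lmul {R S : Type u} [CommRing R] [CommRing S] [Algebra R S]
    (h : (Algebra.TensorProduct.lmul' R (S := S)).toRingHom.Flat) :
    Algebra.FormallyUnramified R S := by
  refine (Algebra.formallyUnramified_iff _ _).2 ?_
  let := (Algebra.TensorProduct.lmul' R (S := S)).toRingHom.toAlgebra
  have : Module.Flat (S ⊗[R] S) S := h
  exact (Ideal.cotangent_subsingleton_iff _).2
    (ker_idempotent_of_flat (S := S ⊗[R] S) (T := S) fun x => ⟨1 ⊗ₜ x, by simp [RingHom.algebraMap_toAlgebra]⟩)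

theorem isSeparable_of_weaklyEtale {K L : Type u} [Field K] [Field L] [Algebra K L]
    [hW : Algebra.WeaklyEtale K L] : Algebra.IsSeparable K L := by
  refine ⟨fun a => ?_⟩
  let E := IntermediateField.adjoin K ({a} : Set L)
  have : Algebra.EssFiniteType K E := IntermediateField.essFiniteType_iff.2
    (IntermediateField.fg_adjoin_of_finite (Set.finite_singleton a))
  let μE := Algebra.TensorProduct.lmul' K (S := E)
  let μL := Algebra.TensorProduct.lmul' K (S := L)
  let j : E →ₐ[K] L := E.val
  let m := Algebra.TensorProduct.map j j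
  have hj : j.toRingHom.Flat := by
    show (algebraMap E L).Flat
    exact RingHom.flat_algebraMap_iff.2 inferInstance
  have hm : m.toRingHom.Flat := RingHom.Flat.tensorProductMap hj hj
  have hcomp : μL.comp m = j.comp μE := by ext <;> simp [μL, μE, m]
  have h2 : (μL.comp m).toRingHom.Flat := RingHom.Flat.comp hm hW.flat_lmul'
  rw [hcomp] at h2
  have h3 : μE.toRingHom.Flat := by
    let := μE.toRingHom.toAlgebra
    let := (j.comp μE).toRingHom.toAlgebra
    have : IsScalarTower (E ⊗[K] E) E L := .of_algebraMap_eq' rfl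
    have : Module.Flat (E ⊗[K] E) L := h2
    exact flat_of_faithfullyFlat (A := E ⊗[K] E) (B := E) (C := L)
  have := formallyUnramified_of_flat_lmul h3
  have hsep : Algebra.IsSeparable K E := Algebra.FormallyUnramified.isSeparable K E
  have ha : a ∈ E := IntermediateField.mem_adjoin_simple_self K a
  have h4 : IsSeparable K (⟨a, ha⟩ : E) := Algebra.IsSeparable.isSeparable K _
  unfold IsSeparable at h4 ⊢
  rwa [IntermediateField.minpoly_eq] at h4

theorem formallyUnramified_of_flat_diagonal {X Y : Scheme.{u}} (f : X ⟶ Y)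
    (h : Flat (pullback.diagonal f)) : FormallyUnramified f := by
  wlog hY : ∃ R, Y = Spec R
  · rw [IsZariskiLocalAtTarget.iff_of_openCover (P := @FormallyUnramified) Y.affineCover]
    intro i
    exact this (pullback.snd _ _) (MorphismProperty.pullback_snd (P := .diagonal @Flat) _ _ h) ⟨_, rfl⟩
  obtain ⟨R, rfl⟩ := hY
  wlog hX : ∃ S, X = Spec S generalizing X
  · rw [IsZariskiLocalAtSource.iff_of_openCover (P := @FormallyUnramified) X.affineCover]
    intro i
    exact this (_ ≫ _) (MorphismProperty.comp_mem (.diagonal @Flat) _ _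
      (show Flat (pullback.diagonal (X.affineCover.f i)) from inferInstance) h) ⟨_, rfl⟩
  obtain ⟨S, rfl⟩ := hX
  obtain ⟨φ, rfl : Spec.map φ = f⟩ := Spec.homEquiv.symm.surjective f
  rw [HasRingHomProperty.Spec_iff (P := @FormallyUnramified)]
  algebraize [φ.hom]
  refine formallyUnramified_of_flat_lmul ?_
  have : Flat (Spec.map (CommRingCat.ofHom (Algebra.TensorProduct.lmul' R (S := S)).toRingHom)) := by
    rw [← MorphismProperty.cancel_right_of_respectsIso (P := @Flat) _ (pullbackSpecIso R S S).inv,
      ← AlgebraicGeometry.diagonal_SpecMap R S]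
    exact h
  exact (HasRingHomProperty.Spec_iff (P := @Flat)).1 this

end SweepSix
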