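import Groth.Agent.SweepSix.Constr
import Mathlib.AlgebraicGeometry.Noetherian

/-!
# Maximal points and open sets of locally Noetherian spaces
-/

set_option autoImplicit false
universe u

open Topology TopologicalSpace Set AlgebraicGeometry

namespace SweepSix

theorem mem_of_dense_of_maximal {X : Type u} [TopologicalSpace X] [NoetherianSpace X] [QuasiSober X]
    {U : Set X} (hU : IsOpen U) (hd : Dense U) {x : X} (hx : ∀ y, y ⤳ x → y = x) : x ∈ U := by
  have hZ : closure {x} ∈ irreducibleComponents X := by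
    refine ⟨isIrreducible_singleton.closure, fun S hS hle => ?_⟩
    have hg : IsGenericPoint hS.genericPoint (closure S) := hS.isGenericPoint_genericPoint_closure
    have hsp : hS.genericPoint ⤳ x := hg.specializes (subset_closure (hle (subset_closure rfl)))
    rw [hx _ hsp] at hg
    exact fun z hz => hg.def.symm ▸ subset_closure hz
  obtain ⟨o, ho, hne, hoZ⟩ := NoetherianSpace.exists_isOpen_nonempty_subset_irreducibleComponent _ hZ
  obtain ⟨z, hzo, hzU⟩ := hd.inter_open_nonempty o ho hne
  exact (specializes_iff_mem_closure.2 (hoZ hzo)).mem_open hU hzU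

theorem exists_noetherian_affine_nhd {Y : Scheme.{u}} [IsLocallyNoetherian Y] (y : Y) :
    ∃ W : Set Y, IsOpen W ∧ y ∈ W ∧ NoetherianSpace W := by
  obtain ⟨W, hW, hy, -⟩ := exists_isAffineOpen_mem_and_subset (X := Y) (x := y) (U := ⊤) trivial
  have : IsNoetherianRing Γ(Y, W) := IsLocallyNoetherian.component_noetherian ⟨W, hW⟩
  exact ⟨W, W.2, hy, noetherianSpace_of_isAffineOpen W hW⟩

theorem scheme_mem_of_dense_of_maximal {Y : Scheme.{u}} [IsLocallyNoetherian Y]
    {U : Set Y} (hU : IsOpen U) (hd : Dense U) {x : Y} (hx : ∀ y, y ⤳ x → y = x) : x ∈ U := by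
  obtain ⟨W, hWo, hxW, hN⟩ := exists_noetherian_affine_nhd x
  have : QuasiSober W := hWo.isOpenEmbedding_subtypeVal.quasiSober
  have hd' : Dense ((Subtype.val : W → Y) ⁻¹' U) :=
    hd.preimage hWo.isOpenMap_subtype_val
  exact mem_of_dense_of_maximal (X := ↥W) (x := ⟨x, hxW⟩) (hU.preimage continuous_subtype_val) hd'
    fun y hy => Subtype.ext (hx _ (hy.map continuous_subtype_val))

theorem exists_maximal_generalization {X : Type u} [TopologicalSpace X] [QuasiSober X] [T0Space X]
    (x : X) : ∃ t, t ⤳ x ∧ ∀ y, y ⤳ t → y = t := by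
  obtain ⟨Z, hZ, hxZ⟩ : ∃ Z ∈ irreducibleComponents X, x ∈ Z :=
    ⟨irreducibleComponent x, irreducibleComponent_mem_irreducibleComponents x,
      mem_irreducibleComponent⟩
  have hcl := isClosed_of_mem_irreducibleComponents Z hZ
  have hg : closure {hZ.1.genericPoint} = Z := hZ.1.closure_genericPoint hcl
  refine ⟨hZ.1.genericPoint, specializes_iff_mem_closure.2 (hg.symm ▸ hxZ), fun y hy => ?_⟩
  have hsub : closure {hZ.1.genericPoint} ⊆ closure {y} := specializes_iff_closure_subset.1 hy
  have : closure {y} = Z :=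
    le_antisymm (hZ.2 isIrreducible_singleton.closure (hg ▸ hsub)) (hg ▸ hsub)
  exact (show Inseparable y hZ.1.genericPoint from
    inseparable_iff_closure_eq.2 (this.trans hg.symm)).eq

theorem isOpen_of_isClosed_of_stableUnderGeneralization {Y : Scheme.{u}} [IsLocallyNoetherian Y]
    {W : Set Y} (hW : IsClosed W) (hgen : StableUnderGeneralization W) : IsOpen W := by
  refine isOpen_iff_forall_mem_open.2 fun w hw => ?_
  obtain ⟨V, hVo, hwV, hN⟩ := exists_noetherian_affine_nhd w
  have : QuasiSober V := hVo.isOpenEmbedding_subtypeVal.quasiSober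
  have h1 : IsConstructible ((Subtype.val : V → Y) ⁻¹' W) :=
    isConstructible_compl.mp
      (isConstructible_of_isOpen (hW.preimage continuous_subtype_val).isOpen_compl)
  have h2 : StableUnderGeneralization ((Subtype.val : V → Y) ⁻¹' W) :=
    fun _ _ h h' => hgen (h.map continuous_subtype_val) h'
  exact ⟨Subtype.val '' (Subtype.val ⁻¹' W), Set.image_preimage_subset _ _,
    hVo.isOpenMap_subtype_val _ (isOpen_of_stableUnderGeneralization h1 h2), ⟨⟨w, hwV⟩, hw, rfl⟩⟩

end SweepSix
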