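import Mathlib.AlgebraicGeometry.Sites.SmallAffineZariski
import Mathlib.AlgebraicGeometry.Morphisms.Affine
import Mathlib.AlgebraicGeometry.Morphisms.Separated
import Mathlib.CategoryTheory.Filtered.Final
import Mathlib.Algebra.Category.Ring.Colimits
import Mathlib.CategoryTheory.Limits.FunctorCategory.Basic

/-!
# Limits of diagrams of schemes with affine transition maps
-/

set_option autoImplicit false
universe u

open CategoryTheory CategoryTheory.Limits AlgebraicGeometry Opposite TopologicalSpace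

noncomputable section

set_option backward.isDefEq.respectTransparency false

namespace SweepSix.AffLimit

variable {I : Type u} [SmallCategory I] (D : I ⥤ Scheme.{u}) [∀ (i j : I) (f : i ⟶ j), IsAffineHom (D.map f)]
  (i₀ : I)

/-- the structure map to the chosen stage -/
abbrev str (j : Over i₀) : D.obj j.left ⟶ D.obj i₀ := D.map j.hom

theorem appLE_congr_hom {X Y : Scheme.{u}} {f g : X ⟶ Y} (h : f = g) (U : Y.Opens) (V : X.Opens)
    (e : V ≤ f ⁻¹ᵁ U) : f.appLE U V e = g.appLE U V (h ▸ e) := by subst h; rfl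

theorem str_w {j k : Over i₀} (f : j ⟶ k) : D.map f.left ≫ str D i₀ k = str D i₀ j := by
  rw [← D.map_comp, Over.w f]

theorem isAffineOpen_pre (j : Over i₀) (U : (D.obj i₀).AffineZariskiSite) :
    IsAffineOpen (str D i₀ j ⁻¹ᵁ U.1) := U.2.preimage _

/-- sections of a stage over the affine opens of the base -/
def stageObj (j : Over i₀) : (D.obj i₀).AffineZariskiSiteᵒᵖ ⥤ CommRingCat.{u} where
  obj U := Γ(D.obj j.left, str D i₀ j ⁻¹ᵁ U.unop.1)
  map {U V} g := (D.obj j.left).presheaf.map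
    (homOfLE ((str D i₀ j).preimage_mono (Scheme.AffineZariskiSite.toOpens_mono g.unop.le))).op
  map_id U := by exact (D.obj j.left).presheaf.map_id _
  map_comp f g := by rw [← Functor.map_comp]; rfl

theorem pre_le {j k : Over i₀} (f : j ⟶ k) (U : (D.obj i₀).Opens) :
    str D i₀ j ⁻¹ᵁ U ≤ D.map f.left ⁻¹ᵁ str D i₀ k ⁻¹ᵁ U := by
  rw [← Scheme.Hom.comp_preimage, str_w]

/-- the diagram of algebras -/
def stages : (Over i₀)ᵒᵖ ⥤ ((D.obj i₀).AffineZariskiSiteᵒᵖ ⥤ CommRingCat.{u}) where
  obj j := stageObj D i₀ j.unop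
  map {j k} f :=
    { app := fun U => (D.map f.unop.left).appLE _ _ (pre_le D i₀ f.unop U.unop.1)
      naturality := fun U V g => by simp [stageObj] }
  map_id j := by
    ext U : 2
    refine (appLE_congr_hom (D.map_id _) _ _ _).trans ?_
    simp [Scheme.Hom.appLE]
    exact (D.obj j.unop.left).presheaf.map_id _
  map_comp {j k l} f g := by
    ext U : 2
    refine (appLE_congr_hom (D.map_comp _ _) _ _ _).trans ?_
    exact (Scheme.Hom.appLE_comp_appLE _ _ _ _ _ _ _).symm

/-- the structure map of a stage -/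
def stageAlg (j : Over i₀) :
    (Scheme.AffineZariskiSite.toOpensFunctor (D.obj i₀)).op ⋙ (D.obj i₀).presheaf ⟶ stageObj D i₀ j where
  app U := (str D i₀ j).app U.unop.1
  naturality U V g := by
    dsimp only [stageObj, Functor.comp_map, Functor.op_map]
    rw [Scheme.Hom.app_eq_appLE, Scheme.Hom.app_eq_appLE]
    exact (Scheme.Hom.map_appLE (str D i₀ j) _ _).trans (Scheme.Hom.appLE_map (str D i₀ j) _ _).symm

theorem stageAlg_comp {j k : (Over i₀)ᵒᵖ} (f : j ⟶ k) :
    stageAlg D i₀ j.unop ≫ (stages D i₀).map f = stageAlg D i₀ k.unop := by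
  ext U : 2
  simp only [stages, stageAlg, NatTrans.comp_app, Scheme.Hom.app_eq_appLE]
  exact (Scheme.Hom.appLE_comp_appLE _ _ _ _ _ _ _).trans (appLE_congr_hom (str_w D i₀ f.unop) _ _ _)

theorem coequifibered_stageAlg (j : Over i₀) : (stageAlg D i₀ j).Coequifibered := by
  rw [Scheme.AffineZariskiSite.coequifibered_iff_forall_isLocalizationAway]
  intro U f
  exact (isAffineOpen_pre D i₀ j U).isLocalization_of_eq_basicOpen _ _
    (Scheme.preimage_basicOpen (str D i₀ j) f)

/-- the algebra whose spectrum is the limit -/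
def alg : (D.obj i₀).AffineZariskiSiteᵒᵖ ⥤ CommRingCat.{u} := colimit (stages D i₀)

/-- its structure map -/
def algMap : (Scheme.AffineZariskiSite.toOpensFunctor (D.obj i₀)).op ⋙ (D.obj i₀).presheaf ⟶ alg D i₀ :=
  stageAlg D i₀ (Over.mk (𝟙 i₀)) ≫ colimit.ι (stages D i₀) (op (Over.mk (𝟙 i₀)))

theorem stageAlg_ι (j : Over i₀) :
    stageAlg D i₀ j ≫ colimit.ι (stages D i₀) (op j) = algMap D i₀ := by
  let f : j ⟶ Over.mk (𝟙 i₀) := Over.homMk j.hom (Category.comp_id _)
  rw [algMap, ← colimit.w (stages D i₀) f.op, ← Category.assoc]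
  exact congrArg (· ≫ _) (stageAlg_comp D i₀ f.op).symm

/-- evaluation of the colimit -/
def isColimitEval (U : (D.obj i₀).AffineZariskiSiteᵒᵖ) :
    IsColimit (((evaluation _ _).obj U).mapCocone (colimit.cocone (stages D i₀))) :=
  isColimitOfPreserves _ (colimit.isColimit (stages D i₀))

theorem coequifibered_algMap : (algMap D i₀).Coequifibered := by
  intro U V g
  have hP : ∀ j : Over i₀, IsPushout (((Scheme.AffineZariskiSite.toOpensFunctor (D.obj i₀)).op ⋙
      (D.obj i₀).presheaf).map g) ((stageAlg D i₀ j).app U) ((stageAlg D i₀ j).app V)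
      ((stageObj D i₀ j).map g) := fun j => coequifibered_stageAlg D i₀ j g
  have hι : ∀ (j : Over i₀) (W), (stageAlg D i₀ j).app W ≫ (colimit.ι (stages D i₀) (op j)).app W =
      (algMap D i₀).app W := fun j W => congr($(stageAlg_ι D i₀ j).app W)
  refine ⟨⟨(algMap D i₀).naturality g⟩, ⟨PushoutCocone.IsColimit.mk _ (fun s => ?_) (fun s => ?_)
    (fun s => ?_) (fun s m h1 h2 => ?_)⟩⟩
  · refine (isColimitEval D i₀ V).desc ⟨s.pt, ⟨fun j => (hP j.unop).desc s.inl
      ((colimit.ι (stages D i₀) j).app U ≫ s.inr) ?_, fun j k f => ?_⟩⟩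
    · exact s.condition.trans ((congrArg (· ≫ s.inr) (hι j.unop U).symm).trans (Category.assoc _ _ _))
    · refine (hP j.unop).hom_ext ?_ ?_
      · have h1 := congr($(stageAlg_comp D i₀ f).app V)
        change _ ≫ ((stages D i₀).map f).app V ≫ _ = _ ≫ _ ≫ 𝟙 _
        rw [Category.comp_id]
        refine ((Category.assoc _ _ _).symm.trans (congrArg (· ≫ _) h1)).trans ?_
        rw [(hP k.unop).inl_desc, (hP j.unop).inl_desc]
      · change _ ≫ ((stages D i₀).map f).app V ≫ _ = _ ≫ _ ≫ 𝟙 _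
        rw [Category.comp_id]
        refine ((Category.assoc _ _ _).symm.trans
          (congrArg (· ≫ _) (((stages D i₀).map f).naturality g))).trans ?_
        rw [Category.assoc]
        refine (congrArg (_ ≫ ·) ((hP k.unop).inr_desc _ _ _)).trans ?_
        refine Eq.trans ?_ ((hP j.unop).inr_desc _ _ _).symm
        rw [← Category.assoc]
        exact congrArg (· ≫ s.inr) congr($(colimit.w (stages D i₀) f).app U)
  · rw [← hι (Over.mk (𝟙 i₀)) V, Category.assoc]
    refine (congrArg (_ ≫ ·) ((isColimitEval D i₀ V).fac _ (op (Over.mk (𝟙 i₀))))).trans ?_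
    exact (hP _).inl_desc _ _ _
  · refine (isColimitEval D i₀ U).hom_ext fun j => ?_
    refine ((Category.assoc _ _ _).symm.trans
      (congrArg (· ≫ _) ((colimit.ι (stages D i₀) j).naturality g).symm)).trans ?_
    rw [Category.assoc]
    refine (congrArg (_ ≫ ·) ((isColimitEval D i₀ V).fac _ j)).trans ?_
    exact (hP j.unop).inr_desc _ _ _
  · refine (isColimitEval D i₀ V).hom_ext fun j => ?_
    rw [(isColimitEval D i₀ V).fac]
    refine (hP j.unop).hom_ext ?_ ?_
    · rw [(hP j.unop).inl_desc, ← h1, ← hι j.unop V, Category.assoc]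
      rfl
    · rw [(hP j.unop).inr_desc, ← h2]
      exact (Category.assoc _ _ _).symm.trans
        ((congrArg (· ≫ m) ((colimit.ι (stages D i₀) j).naturality g)).trans
          (Category.assoc _ _ _))

/-- the gluing datum -/
abbrev glueData := Scheme.AffineZariskiSite.relativeGluingData (coequifibered_algMap D i₀)

instance : ((glueData D i₀).functor ⋙ Scheme.forget).IsLocallyDirected :=
  Scheme.Cover.RelativeGluingData.instIsLocallyDirectedI₀CompFunctorForgetOfIsThin ..

/-- the limit -/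
def pt : Scheme.{u} := (glueData D i₀).glued

/-- the inclusion of an affine piece -/
def piece (U : (D.obj i₀).AffineZariskiSite) : Spec ((alg D i₀).obj (op U)) ⟶ pt D i₀ :=
  colimit.ι (glueData D i₀).functor U

/-- the map to the base -/
def toBase : pt D i₀ ⟶ D.obj i₀ := (glueData D i₀).toBase

theorem piece_toBase (U : (D.obj i₀).AffineZariskiSite) :
    piece D i₀ U ≫ toBase D i₀ = Spec.map ((algMap D i₀).app (op U)) ≫ U.2.fromSpec := by
  refine ((glueData D i₀).ι_toBase U).trans ?_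
  change (Spec.map ((algMap D i₀).app (op U)) ≫ U.2.isoSpec.inv) ≫ U.1.ι = _
  rw [Category.assoc]
  rfl

instance (U : (D.obj i₀).AffineZariskiSite) : IsOpenImmersion (piece D i₀ U) :=
  (glueData D i₀).cover.map_prop U

theorem preimage_eq (U : (D.obj i₀).AffineZariskiSite) :
    toBase D i₀ ⁻¹ᵁ U.1 = (piece D i₀ U).opensRange := by
  have := (glueData D i₀).toBase_preimage_eq_opensRange_ι U
  simpa [piece, toBase] using! this

/-- the projection to a stage -/
def proj (j : Over i₀) : pt D i₀ ⟶ D.obj j.left :=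
  colimit.desc _
    { pt := D.obj j.left
      ι :=
        { app := fun U => Spec.map ((colimit.ι (stages D i₀) (op j)).app (op U)) ≫
            (isAffineOpen_pre D i₀ j U).fromSpec
          naturality := fun U V g => by
            change Spec.map ((alg D i₀).map g.op) ≫ _ = _ ≫ 𝟙 _
            rw [Category.comp_id, ← Spec.map_comp_assoc]
            refine (congrArg (fun φ => Spec.map φ ≫ _)
              ((colimit.ι (stages D i₀) (op j)).naturality g.op).symm).trans ?_
            rw [Spec.map_comp_assoc]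
            exact congrArg (_ ≫ ·) ((isAffineOpen_pre D i₀ j V).map_fromSpec
              (isAffineOpen_pre D i₀ j U) _) } }

theorem piece_proj (j : Over i₀) (U : (D.obj i₀).AffineZariskiSite) :
    piece D i₀ U ≫ proj D i₀ j = Spec.map ((colimit.ι (stages D i₀) (op j)).app (op U)) ≫
      (isAffineOpen_pre D i₀ j U).fromSpec :=
  colimit.ι_desc _ _

theorem proj_str (j : Over i₀) : proj D i₀ j ≫ str D i₀ j = toBase D i₀ := by
  refine colimit.hom_ext fun U => ?_
  change piece D i₀ U ≫ _ = piece D i₀ U ≫ _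
  rw [← Category.assoc, piece_proj, piece_toBase, Category.assoc,
    ← IsAffineOpen.SpecMap_appLE_fromSpec (str D i₀ j) U.2 (isAffineOpen_pre D i₀ j U) le_rfl,
    ← Spec.map_comp_assoc, ← Scheme.Hom.app_eq_appLE]
  exact congrArg (fun φ => Spec.map φ ≫ U.2.fromSpec) congr($(stageAlg_ι D i₀ j).app (op U))

theorem proj_w {j k : Over i₀} (f : j ⟶ k) : proj D i₀ j ≫ D.map f.left = proj D i₀ k := by
  refine colimit.hom_ext fun U => ?_
  change piece D i₀ U ≫ _ = piece D i₀ U ≫ _
  rw [← Category.assoc, piece_proj, piece_proj, Category.assoc,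
    ← IsAffineOpen.SpecMap_appLE_fromSpec (D.map f.left) (isAffineOpen_pre D i₀ k U)
      (isAffineOpen_pre D i₀ j U) (pre_le D i₀ f U.1), ← Spec.map_comp_assoc]
  exact congrArg (fun φ => Spec.map φ ≫ _) congr($(colimit.w (stages D i₀) f.op).app (op U))

instance : IsAffineHom (toBase D i₀) := by
  refine (IsZariskiLocalAtTarget.iff_of_iSup_eq_top _ (iSup_affineOpens_eq_top (D.obj i₀))).mpr
    fun U => ?_
  have : IsAffine (toBase D i₀ ⁻¹ᵁ U.1 : (pt D i₀).Opens) := by
    rw [preimage_eq D i₀ U]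
    exact isAffineOpen_opensRange _
  have : IsAffine (U.1 : (D.obj i₀).Opens) := U.2
  infer_instance

instance (j : Over i₀) : IsAffineHom (proj D i₀ j) := by
  have : IsAffineHom (proj D i₀ j ≫ str D i₀ j) := proj_str D i₀ j ▸ inferInstance
  exact IsAffineHom.of_comp (proj D i₀ j) (str D i₀ j)

theorem hom_to_piece_ext {T : Scheme.{u}} (U : (D.obj i₀).AffineZariskiSite)
    (a b : T ⟶ Spec ((alg D i₀).obj (op U)))
    (h : ∀ j, a ≫ Spec.map ((colimit.ι (stages D i₀) (op j)).app (op U)) =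
      b ≫ Spec.map ((colimit.ι (stages D i₀) (op j)).app (op U))) : a = b := by
  refine ext_of_isAffine ?_
  rw [← cancel_epi (Scheme.ΓSpecIso _).inv]
  refine (isColimitEval D i₀ (op U)).hom_ext fun j => ?_
  have := congr(($(h j.unop)).appTop)
  simp only [Scheme.Hom.comp_appTop] at this
  change (colimit.ι (stages D i₀) j).app (op U) ≫ (Scheme.ΓSpecIso _).inv ≫ a.appTop =
    (colimit.ι (stages D i₀) j).app (op U) ≫ (Scheme.ΓSpecIso _).inv ≫ b.appTop
  rw [Scheme.ΓSpecIso_inv_naturality_assoc, Scheme.ΓSpecIso_inv_naturality_assoc]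
  exact congrArg _ this

theorem hom_ext {T : Scheme.{u}} (a b : T ⟶ pt D i₀) (h : ∀ j, a ≫ proj D i₀ j = b ≫ proj D i₀ j) :
    a = b := by
  have hg : a ≫ toBase D i₀ = b ≫ toBase D i₀ := by
    rw [← proj_str D i₀ (Over.mk (𝟙 i₀)), ← Category.assoc, h, Category.assoc]
  refine Scheme.Cover.hom_ext (T.openCoverOfIsOpenCover
    (fun U : (D.obj i₀).AffineZariskiSite => (a ≫ toBase D i₀) ⁻¹ᵁ U.1)
    (.comap (iSup_affineOpens_eq_top (D.obj i₀)) _)) _ _ fun (U : (D.obj i₀).AffineZariskiSite) => ?_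
  let V := (a ≫ toBase D i₀) ⁻¹ᵁ U.1
  change V.ι ≫ a = V.ι ≫ b
  have hr : ∀ c : T ⟶ pt D i₀, c ≫ toBase D i₀ = a ≫ toBase D i₀ →
      Set.range (V.ι ≫ c) ⊆ Set.range (piece D i₀ U) := by
    rintro c hc _ ⟨x, rfl⟩
    have : (V.ι ≫ c) x ∈ toBase D i₀ ⁻¹ᵁ U.1 := by
      change (c ≫ toBase D i₀) (V.ι x) ∈ U.1
      rw [hc]
      exact x.2
    rwa [preimage_eq] at this
  rw [← IsOpenImmersion.lift_fac (piece D i₀ U) (V.ι ≫ a) (hr a rfl),
    ← IsOpenImmersion.lift_fac (piece D i₀ U) (V.ι ≫ b) (hr b hg.symm)]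
  congr 1
  refine hom_to_piece_ext D i₀ U _ _ fun j => ?_
  rw [← cancel_mono (isAffineOpen_pre D i₀ j U).fromSpec, Category.assoc, Category.assoc,
    ← piece_proj, IsOpenImmersion.lift_fac_assoc, IsOpenImmersion.lift_fac_assoc, Category.assoc,
    Category.assoc, h]

/-- the limit cone over `Over i₀` -/
def cone : Cone (Over.forget i₀ ⋙ D) where
  pt := pt D i₀
  π :=
    { app := fun j => proj D i₀ j
      naturality := fun j k f => by
        change 𝟙 _ ≫ _ = _ ≫ D.map f.left
        rw [Category.id_comp, proj_w] }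

theorem exists_lift (s : Cone (Over.forget i₀ ⋙ D)) :
    ∃ m : s.pt ⟶ pt D i₀, ∀ j, m ≫ proj D i₀ j = s.π.app j := by
  let g : s.pt ⟶ D.obj i₀ := s.π.app (Over.mk (𝟙 i₀))
  have hg : ∀ j, s.π.app j ≫ str D i₀ j = g := fun j =>
    s.w (Over.homMk j.hom (Category.comp_id _) : j ⟶ Over.mk (𝟙 i₀))
  have hle : ∀ (j : Over i₀) (U : (D.obj i₀).AffineZariskiSite),
      g ⁻¹ᵁ U.1 ≤ s.π.app j ⁻¹ᵁ str D i₀ j ⁻¹ᵁ U.1 := fun j U => by
    rw [← Scheme.Hom.comp_preimage, hg]
  let c : ∀ U : (D.obj i₀).AffineZariskiSite, Cocone (stages D i₀ ⋙ (evaluation _ _).obj (op U)) :=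
    fun U => ⟨Γ(s.pt, g ⁻¹ᵁ U.1), ⟨fun j => (s.π.app j.unop).appLE _ _ (hle j.unop U),
      fun j k f => by
        change (D.map f.unop.left).appLE _ _ _ ≫ _ = _ ≫ 𝟙 _
        rw [Category.comp_id, Scheme.Hom.appLE_comp_appLE]
        congr 1
        exact s.w f.unop⟩⟩
  let m : ∀ U : (D.obj i₀).AffineZariskiSite, (g ⁻¹ᵁ U.1 : s.pt.Opens).toScheme ⟶ pt D i₀ := fun U =>
    (g ⁻¹ᵁ U.1).toSpecΓ ≫ Spec.map ((isColimitEval D i₀ (op U)).desc (c U)) ≫ piece D i₀ U
  have hm : ∀ U j, m U ≫ proj D i₀ j = (g ⁻¹ᵁ U.1).ι ≫ s.π.app j := fun U j => by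
    simp only [m, Category.assoc]
    rw [piece_proj, ← Spec.map_comp_assoc]
    have : (colimit.ι (stages D i₀) (op j)).app (op U) ≫ (isColimitEval D i₀ (op U)).desc (c U) =
        (s.π.app j).appLE _ _ (hle j U) := (isColimitEval D i₀ (op U)).fac (c U) (op j)
    rw [this]
    simp
  let 𝒱 := s.pt.openCoverOfIsOpenCover (fun U : (D.obj i₀).AffineZariskiSite => g ⁻¹ᵁ U.1)
    (.comap (iSup_affineOpens_eq_top (D.obj i₀)) _)
  refine ⟨𝒱.glueMorphisms m fun U V => hom_ext D i₀ _ _ fun j => ?_, fun j => ?_⟩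
  · rw [Category.assoc, Category.assoc]
    refine (congrArg (_ ≫ ·) (hm U j)).trans (Eq.trans ?_ (congrArg (_ ≫ ·) (hm V j)).symm)
    rw [← Category.assoc, ← Category.assoc]
    exact congrArg (· ≫ _) pullback.condition
  · refine Scheme.Cover.hom_ext 𝒱 _ _ fun U => ?_
    rw [← Category.assoc, 𝒱.ι_glueMorphisms]
    exact hm U j

/-- it is a limit -/
def isLimitCone : IsLimit (cone D i₀) where
  lift s := (exists_lift D i₀ s).choose
  fac s j := (exists_lift D i₀ s).choose_spec j
  uniq s m hm := hom_ext D i₀ _ _ fun j => (hm j).trans ((exists_lift D i₀ s).choose_spec j).symm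

theorem exists_isLimit [IsCofiltered I] :
    ∃ (c : Limits.Cone D) (_ : IsLimit c), ∀ i, IsAffineHom (c.π.app i) := by
  obtain ⟨i₁⟩ := IsCofiltered.nonempty (C := I)
  refine ⟨(Functor.Initial.extendCone (F := Over.forget i₁)).obj (cone D i₁),
    (Functor.Initial.isLimitExtendConeEquiv (F := Over.forget i₁) _).symm (isLimitCone D i₁), fun i => ?_⟩
  obtain ⟨k, a, b, -⟩ := IsCofilteredOrEmpty.cone_objs i₁ i
  rw [Functor.Initial.extendCone_obj_π_app' (cone D i₁) (X := Over.mk a) b]
  change IsAffineHom (proj D i₁ (Over.mk a) ≫ D.map b)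
  infer_instance

end SweepSix.AffLimit

end
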