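import Mathlib.AlgebraicGeometry.Morphisms.Finite
import Mathlib.AlgebraicGeometry.FunctionField
import Mathlib.RingTheory.Ideal.GoingUp
import Mathlib.RingTheory.Localization.Finiteness
import Mathlib.RingTheory.Localization.Integral

/-!
# Stalks at the only point of a fibre of an integral morphism
-/

set_option autoImplicit false
universe u

open CategoryTheory AlgebraicGeometry TopologicalSpace

noncomputable section

namespace SweepSix.IntStalk

theorem isLocalization_of_unique {A B Bq : Type u} [CommRing A] [CommRing B] [CommRing Bq] [Algebra A B]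
    [Algebra B Bq] [Algebra.IsIntegral A B] (p : Ideal A) [p.IsPrime] (q : Ideal B) [q.IsPrime]
    (hq : q.comap (algebraMap A B) = p) [IsLocalization.AtPrime Bq q]
    (huniq : ∀ P : Ideal B, P.IsPrime → P.comap (algebraMap A B) = p → P = q) :
    IsLocalization (Algebra.algebraMapSubmonoid B p.primeCompl) Bq := by
  have hle : Algebra.algebraMapSubmonoid B p.primeCompl ≤ q.primeCompl := by
    rintro _ ⟨a, ha, rfl⟩ h
    exact ha (hq ▸ h)
  let L := Localization (Algebra.algebraMapSubmonoid B p.primeCompl)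
  have hL : IsLocalization q.primeCompl L := by
    refine IsLocalization.of_le _ _ hle fun s hs => ?_
    by_contra hu
    obtain ⟨P, hP, hsP⟩ := exists_max_ideal_of_mem_nonunits (mem_nonunits_iff.mpr hu)
    let Q := P.comap (algebraMap B L)
    have hQ : Q.IsPrime := hP.isPrime.comap _
    have hQp : Q.comap (algebraMap A B) ≤ p := fun a ha => by
      by_contra hap
      exact hP.ne_top (P.eq_top_of_isUnit_mem ha
        (IsLocalization.map_units L ⟨algebraMap A B a, Algebra.mem_algebraMapSubmonoid_of_mem (⟨a, hap⟩ : p.primeCompl)⟩))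
    obtain ⟨Q', hQQ', hQ', hQ'p⟩ := Ideal.exists_ideal_over_prime_of_isIntegral p Q hQp
    exact hs (huniq Q' hQ' hQ'p ▸ hQQ' hsP)
  exact IsLocalization.isLocalization_of_algEquiv _ (IsLocalization.algEquiv q.primeCompl L Bq)

theorem stalk_props {X Y : Scheme.{u}} (f : X ⟶ Y) [IsIntegralHom f] (x : X)
    (hx : ∀ x' : X, f x' = f x → x' = x) :
    (f.stalkMap x).hom.IsIntegral ∧ (IsFinite f → (f.stalkMap x).hom.Finite) := by
  obtain ⟨V, hV, hxV, -⟩ := exists_isAffineOpen_mem_and_subset (U := (⊤ : Y.Opens)) (x := f x) trivial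
  have hU : IsAffineOpen (f ⁻¹ᵁ V) := hV.preimage f
  let A := Γ(Y, V)
  let B := Γ(X, f ⁻¹ᵁ V)
  let := (f.app V).hom.toAlgebra
  let := TopCat.Presheaf.algebra_section_stalk Y.presheaf (⟨f x, hxV⟩ : V)
  let := TopCat.Presheaf.algebra_section_stalk X.presheaf (⟨x, hxV⟩ : (f ⁻¹ᵁ V : X.Opens))
  let := (f.stalkMap x).hom.toAlgebra
  let : Algebra A (X.presheaf.stalk x) := ((algebraMap B (X.presheaf.stalk x)).comp (algebraMap A B)).toAlgebra
  have : IsScalarTower A B (X.presheaf.stalk x) := .of_algebraMap_eq' rfl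
  have : IsScalarTower A (Y.presheaf.stalk (f x)) (X.presheaf.stalk x) := .of_algebraMap_eq' <| by
    exact congrArg CommRingCat.Hom.hom (Scheme.Hom.germ_stalkMap f V x hxV).symm
  let p := (hV.primeIdealOf ⟨f x, hxV⟩).asIdeal
  let q := (hU.primeIdealOf ⟨x, hxV⟩).asIdeal
  have hp : IsLocalization.AtPrime (Y.presheaf.stalk (f x)) p := hV.isLocalization_stalk ⟨f x, hxV⟩
  have hq : IsLocalization.AtPrime (X.presheaf.stalk x) q := hU.isLocalization_stalk ⟨x, hxV⟩
  have hcomap : ∀ P : PrimeSpectrum B, hV.fromSpec (PrimeSpectrum.comap (f.app V).hom P) = f (hU.fromSpec P) := by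
    intro P
    have h := IsAffineOpen.SpecMap_appLE_fromSpec f hV hU le_rfl
    rw [← Scheme.Hom.app_eq_appLE] at h
    exact congr($h P)
  have : Algebra.IsIntegral A B := ⟨f.isIntegral_app V hV⟩
  have hcp : q.comap (algebraMap A B) = p := by
    refine congrArg PrimeSpectrum.asIdeal (?_ : PrimeSpectrum.comap (f.app V).hom (hU.primeIdealOf ⟨x, hxV⟩) =
      hV.primeIdealOf ⟨f x, hxV⟩)
    apply hV.fromSpec.isOpenEmbedding.injective
    rw [hcomap, hU.fromSpec_primeIdealOf, hV.fromSpec_primeIdealOf]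
  have hloc : IsLocalization (Algebra.algebraMapSubmonoid B p.primeCompl) (X.presheaf.stalk x) := by
    refine isLocalization_of_unique (A := A) (B := B) p q hcp fun P hP hPp => ?_
    refine congrArg PrimeSpectrum.asIdeal (?_ : (⟨P, hP⟩ : PrimeSpectrum B) = hU.primeIdealOf ⟨x, hxV⟩)
    apply hU.fromSpec.isOpenEmbedding.injective
    rw [hU.fromSpec_primeIdealOf]
    refine hx _ ((hcomap ⟨P, hP⟩).symm.trans ?_)
    rw [show PrimeSpectrum.comap (f.app V).hom ⟨P, hP⟩ = hV.primeIdealOf ⟨f x, hxV⟩ from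
      PrimeSpectrum.ext hPp, hV.fromSpec_primeIdealOf]
  refine ⟨?_, fun hf => ?_⟩
  · have e : (f.stalkMap x).hom = IsLocalization.map (T := Algebra.algebraMapSubmonoid B p.primeCompl)
        (X.presheaf.stalk x) (algebraMap A B) (Submonoid.le_comap_map _) := by
      apply IsLocalization.ringHom_ext p.primeCompl
      rw [IsLocalization.map_comp]
      exact (IsScalarTower.algebraMap_eq A (Y.presheaf.stalk (f x)) (X.presheaf.stalk x)).symm
    rw [e]
    exact isIntegral_localization
  · have : Module.Finite A B := f.finite_app V hV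
    exact Module.Finite.of_isLocalization A B p.primeCompl

theorem specializes_eq {X Y : Scheme.{u}} [IsIntegral X] [IsIntegral Y] (f : X ⟶ Y) [IsIntegralHom f]
    [IsDominant f] (x : X) (hx : f x = f (genericPoint X)) : x = genericPoint X := by
  obtain ⟨V, hV, hxV, -⟩ := exists_isAffineOpen_mem_and_subset (U := (⊤ : Y.Opens)) (x := f x) trivial
  have hU : IsAffineOpen (f ⁻¹ᵁ V) := hV.preimage f
  have hηV : genericPoint X ∈ f ⁻¹ᵁ V := (hx ▸ hxV : f (genericPoint X) ∈ V)
  have : Nonempty (f ⁻¹ᵁ V : X.Opens) := ⟨⟨x, hxV⟩⟩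
  have : Nonempty V := ⟨⟨f x, hxV⟩⟩
  let := (f.app V).hom.toAlgebra
  have : Algebra.IsIntegral Γ(Y, V) Γ(X, f ⁻¹ᵁ V) := ⟨f.isIntegral_app V hV⟩
  have hfη : f (genericPoint X) = genericPoint Y := by
    refine ((genericPoint_spec Y).eq ?_).symm
    rw [IsGenericPoint, ← Set.image_singleton, ← closure_image_closure f.continuous,
      (genericPoint_spec X).def, Set.image_univ]
    exact f.denseRange.closure_range
  let P := hU.primeIdealOf ⟨x, hxV⟩
  let g := hU.primeIdealOf ⟨genericPoint X, hηV⟩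
  have hg : g.asIdeal = ⊥ := by
    rw [show g = genericPoint (Spec Γ(X, f ⁻¹ᵁ V)) from hU.primeIdealOf_genericPoint, genericPoint_eq_bot_of_affine]
    rfl
  have hP : P.asIdeal = ⊥ := by
    apply Ideal.eq_bot_of_comap_eq_bot (R := Γ(Y, V))
    have h : PrimeSpectrum.comap (f.app V).hom P = hV.primeIdealOf ⟨genericPoint Y, hfη ▸ hx ▸ hxV⟩ := by
      apply hV.fromSpec.isOpenEmbedding.injective
      rw [hV.fromSpec_primeIdealOf]
      have h := IsAffineOpen.SpecMap_appLE_fromSpec f hV hU le_rfl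
      rw [← Scheme.Hom.app_eq_appLE] at h
      refine (congr($h P)).trans ?_
      exact (congrArg f (hU.fromSpec_primeIdealOf ⟨x, hxV⟩)).trans (hx.trans hfη)
    refine (congrArg PrimeSpectrum.asIdeal h).trans ?_
    rw [hV.primeIdealOf_genericPoint, genericPoint_eq_bot_of_affine]
    rfl
  have : P = g := PrimeSpectrum.ext (hP.trans hg.symm)
  have h2 := congrArg hU.fromSpec this
  rw [hU.fromSpec_primeIdealOf, hU.fromSpec_primeIdealOf] at h2
  exact h2

end SweepSix.IntStalk

end
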