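import Groth.Agent.ProjTopLib.FG
import Mathlib.RingTheory.Polynomial.Basic
import Mathlib.Algebra.Algebra.Operations

/-!
# The graded ring `S♮ = ⊕ S_{≥ n}`, presented inside `S[X]`
-/

set_option autoImplicit false
universe u

open Polynomial DirectSum

noncomputable section

namespace SweepSix.Natural

variable {R A : Type u} [CommRing R] [CommRing A] [Algebra R A] (𝒜 : ℕ → Submodule R A) [GradedAlgebra 𝒜]

/-- `S_{≥ n}` -/
abbrev ge (n : ℕ) : Submodule R A := ⨆ (m : ℕ) (_ : n ≤ m), 𝒜 m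

/-- `s ↦ s X^n` -/
abbrev mu (n : ℕ) : A →ₗ[R] A[X] := (monomial n : A →ₗ[A] A[X]).restrictScalars R

theorem le_ge {n m : ℕ} (h : n ≤ m) : 𝒜 m ≤ ge 𝒜 n :=
  le_iSup₂ (f := fun (m : ℕ) (_ : n ≤ m) => 𝒜 m) m h

theorem ge_zero : ge 𝒜 0 = ⊤ := by
  classical
  refine eq_top_iff.mpr fun a _ => ?_
  rw [← DirectSum.sum_support_decompose 𝒜 a]
  exact sum_mem fun k _ => le_ge 𝒜 (Nat.zero_le k) (SetLike.coe_mem _)

theorem proj_eq_zero {n m : ℕ} {s : A} (hs : s ∈ ge 𝒜 n) (h : m < n) :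
    GradedRing.proj 𝒜 m s = 0 := by
  induction hs using Submodule.iSup_induction' with
  | mem k x hx =>
    by_cases hk : n ≤ k
    · rw [iSup_pos hk] at hx
      rw [GradedRing.proj_apply]
      exact DirectSum.decompose_of_mem_ne 𝒜 hx (by omega)
    · rw [iSup_neg hk, Submodule.mem_bot] at hx
      rw [hx, map_zero]
  | zero => rw [map_zero]
  | add x y _ _ hx hy => rw [map_add, hx, hy, add_zero]

theorem mem_ge_iff {n : ℕ} {s : A} : s ∈ ge 𝒜 n ↔ ∀ m < n, GradedRing.proj 𝒜 m s = 0 := by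
  classical
  refine ⟨fun hs m hm => proj_eq_zero 𝒜 hs hm, fun h => ?_⟩
  rw [← DirectSum.sum_support_decompose 𝒜 s]
  refine sum_mem fun k _ => ?_
  rcases lt_or_ge k n with hk | hk
  · have := h k hk
    rw [GradedRing.proj_apply] at this
    rw [this]
    exact zero_mem _
  · exact le_ge 𝒜 hk (SetLike.coe_mem _)

theorem ge_mul (a b : ℕ) : ge 𝒜 a * ge 𝒜 b ≤ ge 𝒜 (a + b) := by
  simp only [ge, Submodule.iSup_mul, Submodule.mul_iSup, iSup_le_iff]
  intro k hk m hm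
  refine le_trans (Submodule.mul_le.mpr fun x hx y hy => ?_) (le_ge 𝒜 (show a + b ≤ m + k by omega))
  exact SetLike.mul_mem_graded hx hy

theorem proj_mul_mem {a b : ℕ} {x y : A} (hx : x ∈ ge 𝒜 a) (hy : y ∈ ge 𝒜 b) :
    GradedRing.proj 𝒜 (a + b) (x * y) = GradedRing.proj 𝒜 a x * GradedRing.proj 𝒜 b y := by
  classical
  have aux : ∀ {i j : ℕ} {p q : A}, p ∈ 𝒜 i → q ∈ 𝒜 j → a ≤ i → b ≤ j →
      GradedRing.proj 𝒜 (a + b) (p * q) = GradedRing.proj 𝒜 a p * GradedRing.proj 𝒜 b q := by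
    intro i j p q hp hq hi hj
    simp only [GradedRing.proj_apply]
    by_cases h : i = a ∧ j = b
    · obtain ⟨rfl, rfl⟩ := h
      rw [DirectSum.decompose_of_mem_same 𝒜 hp, DirectSum.decompose_of_mem_same 𝒜 hq,
        DirectSum.decompose_of_mem_same 𝒜 (SetLike.mul_mem_graded hp hq)]
    · rw [DirectSum.decompose_of_mem_ne 𝒜 (SetLike.mul_mem_graded hp hq) (by omega)]
      rcases not_and_or.mp h with h | h
      · rw [DirectSum.decompose_of_mem_ne 𝒜 hp h, zero_mul]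
      · rw [DirectSum.decompose_of_mem_ne 𝒜 hq h, mul_zero]
  induction hx using Submodule.iSup_induction' with
  | mem i p hp =>
    by_cases hi : a ≤ i
    · rw [iSup_pos hi] at hp
      induction hy using Submodule.iSup_induction' with
      | mem j q hq =>
        by_cases hj : b ≤ j
        · rw [iSup_pos hj] at hq
          exact aux hp hq hi hj
        · rw [iSup_neg hj, Submodule.mem_bot] at hq
          subst hq; simp
      | zero => simp
      | add u v _ _ hu hv => simp only [mul_add, map_add, hu, hv]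
    · rw [iSup_neg hi, Submodule.mem_bot] at hp
      subst hp; simp
  | zero => simp
  | add u v _ _ hu hv => simp only [add_mul, map_add, hu, hv]

theorem mu_injective (n : ℕ) : Function.Injective (mu (R := R) (A := A) n) :=
  monomial_injective n

theorem map_mu_mul (P Q : Submodule R A) (a b : ℕ) :
    P.map (mu a) * Q.map (mu b) = (P * Q).map (mu (a + b)) := by
  refine le_antisymm (Submodule.mul_le.mpr ?_) (Submodule.map_le_iff_le_comap.mpr (Submodule.mul_le.mpr ?_))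
  · rintro _ ⟨p, hp, rfl⟩ _ ⟨q, hq, rfl⟩
    exact ⟨p * q, Submodule.mul_mem_mul hp hq, (monomial_mul_monomial a b p q).symm⟩
  · intro p hp q hq
    change (monomial (a + b) (p * q) : A[X]) ∈ P.map (mu a) * Q.map (mu b)
    rw [← monomial_mul_monomial]
    exact Submodule.mul_mem_mul (Submodule.mem_map_of_mem (f := mu a) hp)
      (Submodule.mem_map_of_mem (f := mu b) hq)

section

variable {B : Type u} [CommRing B] [Algebra R B] (ℬ : ℕ → Submodule R B) [GradedAlgebra ℬ]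
  (φ : B →ₐ[R] Polynomial A) (hφ : Function.Injective φ)
  (hdeg : ∀ n : ℕ, Submodule.map φ.toLinearMap (ℬ n) = Submodule.map (mu n) (ge 𝒜 n))

include hdeg in
theorem exists_mem {n : ℕ} {s : A} (hs : s ∈ ge 𝒜 n) : ∃ b ∈ ℬ n, φ b = monomial n s := by
  have : mu n s ∈ Submodule.map φ.toLinearMap (ℬ n) := hdeg n ▸ Submodule.mem_map_of_mem hs
  exact this

include hdeg in
theorem of_mem {n : ℕ} {b : B} (hb : b ∈ ℬ n) : ∃ s ∈ ge 𝒜 n, φ b = monomial n s := by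
  have : φ.toLinearMap b ∈ Submodule.map (mu n) (ge 𝒜 n) := hdeg n ▸ Submodule.mem_map_of_mem hb
  obtain ⟨s, hs, h⟩ := this
  exact ⟨s, hs, h.symm⟩

/-- `S♮ → S`, `X ↦ 1` -/
def ev : B →+* A := (Polynomial.evalRingHom 1).comp φ.toRingHom

theorem ev_of_eq {n : ℕ} {b : B} {s : A} (h : φ b = monomial n s) : ev φ b = s := by
  simp [ev, h]

include hdeg in
theorem ev_surjective : Function.Surjective (ev φ) := fun a => by
  obtain ⟨b, -, hb⟩ := exists_mem 𝒜 ℬ φ hdeg (n := 0) (s := a) (ge_zero 𝒜 ▸ Submodule.mem_top)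
  exact ⟨b, ev_of_eq φ hb⟩

include hφ hdeg in
theorem ev_zero_bijective :
    Function.Bijective ((ev φ).comp (algebraMap (ℬ 0) B)) := by
  refine ⟨(injective_iff_map_eq_zero _).mpr fun b hb => ?_, fun a => ?_⟩
  · obtain ⟨s, -, hs⟩ := of_mem 𝒜 ℬ φ hdeg b.2
    have h0 : s = 0 := (ev_of_eq φ hs).symm.trans hb
    refine Subtype.ext (hφ ?_)
    rw [hs, h0]; simp
  · obtain ⟨b, hb, hb'⟩ := exists_mem 𝒜 ℬ φ hdeg (n := 0) (s := a) (ge_zero 𝒜 ▸ Submodule.mem_top)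
    exact ⟨⟨b, hb⟩, ev_of_eq φ hb'⟩

include hdeg in
theorem irrelevant_map_ev :
    (HomogeneousIdeal.irrelevant ℬ).toIdeal.map (ev φ) = (HomogeneousIdeal.irrelevant 𝒜).toIdeal := by
  classical
  refine le_antisymm (Ideal.map_le_iff_le_comap.mpr fun b hb => ?_) fun a ha => ?_
  · rw [← DirectSum.sum_support_decompose ℬ b]
    refine Ideal.sum_mem _ fun k _ => ?_
    rcases Nat.eq_zero_or_pos k with rfl | hk
    · rw [ProjTopLib.decompose_zero_of_mem_irrelevant ℬ hb]; exact zero_mem _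
    · obtain ⟨s, hs, h⟩ := of_mem 𝒜 ℬ φ hdeg (SetLike.coe_mem (DirectSum.decompose ℬ b k))
      rw [Ideal.mem_comap, ev_of_eq φ h]
      exact (HomogeneousIdeal.mem_irrelevant_iff 𝒜 s).mpr (proj_eq_zero 𝒜 hs hk)
  · have hge : a ∈ ge 𝒜 1 := (mem_ge_iff 𝒜).mpr fun m hm => by
      obtain rfl : m = 0 := by omega
      exact (HomogeneousIdeal.mem_irrelevant_iff 𝒜 a).mp ha
    obtain ⟨b, hb, h⟩ := exists_mem 𝒜 ℬ φ hdeg hge
    rw [← ev_of_eq φ h]
    exact Ideal.mem_map_of_mem _ (ProjTopLib.mem_irrelevant_of_mem ℬ one_pos hb)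

include hdeg in
theorem finiteType_of_natural [Algebra.FiniteType (ℬ 0) B] : Algebra.FiniteType (𝒜 0) A := by
  refine ProjTopLib.finiteType_of_fg 𝒜 ?_
  rw [← irrelevant_map_ev 𝒜 ℬ φ hdeg]
  exact (ProjTopLib.fg_of_finiteType ℬ).map _

include hφ hdeg in
theorem natural_finiteType [Algebra.FiniteType (𝒜 0) A] : Algebra.FiniteType (ℬ 0) B := by
  classical
  obtain ⟨G, hG, hdG⟩ := GradedAlgebra.exists_finset_adjoin_eq_top_and_homogeneous_ne_zero 𝒜
  choose d hd hmem using hdG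
  have hge : ∀ (g : G) (j : Fin (d g.1 g.2 + 1)), (g : A) ∈ ge 𝒜 j := fun g j =>
    le_ge 𝒜 (by omega) (hmem g.1 g.2)
  choose b hb hbφ using fun (g : G) (j : Fin (d g.1 g.2 + 1)) => exists_mem 𝒜 ℬ φ hdeg (hge g j)
  let E : Finset B := Finset.univ.image fun p : Σ g : G, Fin (d g.1 g.2 + 1) => b p.1 p.2
  let W : Subalgebra (ℬ 0) B := Algebra.adjoin (ℬ 0) (E : Set B)
  let T : Subring A[X] := W.toSubring.map φ.toRingHom
  have hC : ∀ a : A, monomial 0 a ∈ T := fun a => by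
    obtain ⟨z, hz, hz'⟩ := exists_mem 𝒜 ℬ φ hdeg (n := 0) (s := a) (ge_zero 𝒜 ▸ Submodule.mem_top)
    exact ⟨z, W.algebraMap_mem ⟨z, hz⟩, hz'⟩
  have hgen : ∀ (g : A) (hg : g ∈ G) (j : ℕ), j ≤ d g hg → monomial j g ∈ T := fun g hg j hj =>
    ⟨b ⟨g, hg⟩ ⟨j, Nat.lt_succ_of_le hj⟩, Algebra.subset_adjoin (Finset.mem_coe.mpr
      (Finset.mem_image.mpr ⟨⟨⟨g, hg⟩, ⟨j, Nat.lt_succ_of_le hj⟩⟩, Finset.mem_univ _, rfl⟩)), hbφ _ _⟩
  have hmon : ∀ x ∈ Submonoid.closure (G : Set A), ∃ m, x ∈ 𝒜 m ∧ ∀ n ≤ m, monomial n x ∈ T := by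
    intro x hx
    induction hx using Submonoid.closure_induction with
    | mem x hx => exact ⟨d x hx, hmem x hx, hgen x hx⟩
    | one =>
      refine ⟨0, SetLike.one_mem_graded 𝒜, fun n hn => ?_⟩
      obtain rfl : n = 0 := by omega
      exact hC 1
    | mul x y _ _ hx hy =>
      obtain ⟨m, hm, hx⟩ := hx
      obtain ⟨k, hk, hy⟩ := hy
      refine ⟨m + k, SetLike.mul_mem_graded hm hk, fun n hn => ?_⟩
      obtain ⟨n1, n2, h1, h2, rfl⟩ : ∃ n1 n2, n1 ≤ m ∧ n2 ≤ k ∧ n1 + n2 = n :=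
        ⟨min n m, n - min n m, by omega, by omega, by omega⟩
      rw [← monomial_mul_monomial]
      exact T.mul_mem (hx n1 h1) (hy n2 h2)
  have hall : ∀ (a : A) (m n : ℕ), n ≤ m → monomial n (GradedRing.proj 𝒜 m a) ∈ T := by
    intro a
    have ha : a ∈ Submodule.span (𝒜 0) (Submonoid.closure (G : Set A) : Set A) := by
      rw [← Algebra.adjoin_eq_span, hG]; trivial
    induction ha using Submodule.span_induction with
    | mem x hx =>
      intro m n hn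
      obtain ⟨k, hk, hx⟩ := hmon x hx
      rw [GradedRing.proj_apply]
      by_cases h : k = m
      · subst h; rw [DirectSum.decompose_of_mem_same 𝒜 hk]; exact hx n hn
      · rw [DirectSum.decompose_of_mem_ne 𝒜 hk h, map_zero]; exact T.zero_mem
    | zero => intro m n _; rw [map_zero, map_zero]; exact T.zero_mem
    | add x y _ _ hx hy => intro m n hn; rw [map_add, map_add]; exact T.add_mem (hx m n hn) (hy m n hn)
    | smul c x _ hx =>
      intro m n hn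
      have : GradedRing.proj 𝒜 m (c • x) = (c : A) * GradedRing.proj 𝒜 m x := by
        rw [GradedRing.proj_apply, GradedRing.proj_apply, Algebra.smul_def]
        exact DirectSum.coe_decompose_mul_of_left_mem_zero 𝒜 c.2
      rw [this, ← zero_add n, ← monomial_mul_monomial]
      exact T.mul_mem (hC _) (hx m n hn)
  refine ⟨⟨E, eq_top_iff.mpr fun z _ => ?_⟩⟩
  rw [← DirectSum.sum_support_decompose ℬ z]
  refine sum_mem fun n _ => ?_
  obtain ⟨s, hs, hz⟩ := of_mem 𝒜 ℬ φ hdeg (SetLike.coe_mem (DirectSum.decompose ℬ z n))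
  have : monomial n s ∈ T := by
    rw [← DirectSum.sum_support_decompose 𝒜 s, map_sum]
    refine sum_mem fun m _ => ?_
    rcases le_or_gt n m with h | h
    · exact hall s m n h
    · have h0 := proj_eq_zero 𝒜 hs h
      rw [GradedRing.proj_apply] at h0
      rw [h0, map_zero]
      exact T.zero_mem
  obtain ⟨w, hw, hw'⟩ := this
  rwa [← hφ (hz.trans hw'.symm)] at hw

include hdeg in
theorem map_mul_eq (a b : ℕ) :
    (ℬ a * ℬ b).map φ.toLinearMap = (ge 𝒜 a * ge 𝒜 b).map (mu (a + b)) := by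
  rw [Submodule.map_mul, hdeg, hdeg, map_mu_mul]

include hdeg in
theorem map_pow_eq (n : ℕ) : (ℬ 1 ^ n).map φ.toLinearMap = (ge 𝒜 1 ^ n).map (mu n) := by
  induction n with
  | zero =>
    rw [pow_zero, pow_zero, Submodule.map_one, Submodule.one_eq_span, Submodule.one_eq_span,
      Submodule.map_span, Set.image_singleton]
    simp [mu]
  | succ n ih => rw [pow_succ, pow_succ, Submodule.map_mul, ih, hdeg, map_mu_mul]

include hφ hdeg in
theorem natural_eq_iff {n : ℕ} {P : Submodule R B} {Q : Submodule R A}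
    (h : P.map φ.toLinearMap = Q.map (mu n)) : ℬ n = P ↔ ge 𝒜 n = Q := by
  rw [← (Submodule.map_injective_of_injective (f := φ.toLinearMap) hφ).eq_iff, hdeg, h,
    (Submodule.map_injective_of_injective (mu_injective n)).eq_iff]

end

/-- the projection to degree `n` as a linear map -/
def pr (n : ℕ) : A →ₗ[R] A := (𝒜 n).subtype.comp
  ((DirectSum.component R ℕ (fun i => 𝒜 i) n).comp (DirectSum.decomposeLinearEquiv 𝒜).toLinearMap)

theorem pr_apply (n : ℕ) (a : A) : pr 𝒜 n a = GradedRing.proj 𝒜 n a := rfl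

theorem eq_map_pr_ge (n : ℕ) : (ge 𝒜 n).map (pr 𝒜 n) = 𝒜 n := by
  refine le_antisymm ?_ fun a ha => ⟨a, le_ge 𝒜 le_rfl ha, ?_⟩
  · rintro _ ⟨a, -, rfl⟩
    exact SetLike.coe_mem _
  · rw [pr_apply, GradedRing.proj_apply, DirectSum.decompose_of_mem_same 𝒜 ha]

theorem map_pr_mul (a b : ℕ) :
    (ge 𝒜 a * ge 𝒜 b).map (pr 𝒜 (a + b)) ≤ 𝒜 a * 𝒜 b := by
  rw [Submodule.map_le_iff_le_comap, Submodule.mul_le]
  intro x hx y hy
  rw [Submodule.mem_comap, pr_apply, proj_mul_mem 𝒜 hx hy]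
  exact Submodule.mul_mem_mul (SetLike.coe_mem _) (SetLike.coe_mem _)

theorem pow_le_ge (n : ℕ) : ge 𝒜 1 ^ n ≤ ge 𝒜 n := by
  induction n with
  | zero => rw [ge_zero]; exact le_top
  | succ n ih => rw [pow_succ]; exact (mul_le_mul_left (ih) _).trans (ge_mul 𝒜 n 1)

theorem pow_le_graded (n : ℕ) : 𝒜 1 ^ n ≤ 𝒜 n := by
  induction n with
  | zero => rw [pow_zero]; exact Submodule.one_le.mpr (SetLike.one_mem_graded 𝒜)
  | succ n ih =>
    rw [pow_succ]
    exact Submodule.mul_le.mpr fun x hx y hy => SetLike.mul_mem_graded (ih hx) hy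

theorem map_pr_pow (n : ℕ) : (ge 𝒜 1 ^ n).map (pr 𝒜 n) ≤ 𝒜 1 ^ n := by
  induction n with
  | zero =>
    rw [pow_zero, pow_zero, Submodule.map_le_iff_le_comap, Submodule.one_le, Submodule.mem_comap,
      pr_apply, GradedRing.proj_apply, DirectSum.decompose_of_mem_same 𝒜 (SetLike.one_mem_graded 𝒜)]
    exact Submodule.one_le.mp le_rfl
  | succ n ih =>
    rw [pow_succ, pow_succ, Submodule.map_le_iff_le_comap, Submodule.mul_le]
    intro x hx y hy
    rw [Submodule.mem_comap, pr_apply, proj_mul_mem 𝒜 (pow_le_ge 𝒜 n hx) hy]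
    exact Submodule.mul_mem_mul (ih ⟨x, hx, rfl⟩) (SetLike.coe_mem _)

theorem succ_iff (n₀ : ℕ) :
    (∀ n : ℕ, n₀ ≤ n → ge 𝒜 (n + 1) = ge 𝒜 1 * ge 𝒜 n) ↔
      (∀ n : ℕ, n₀ ≤ n → 𝒜 (n + 1) = 𝒜 1 * 𝒜 n) := by
  refine ⟨fun h n hn => le_antisymm ?_ (Submodule.mul_le.mpr fun x hx y hy => ?_),
    fun h n hn => le_antisymm ?_ ?_⟩
  · calc 𝒜 (n + 1) = (ge 𝒜 (n + 1)).map (pr 𝒜 (n + 1)) := (eq_map_pr_ge 𝒜 _).symm
      _ = (ge 𝒜 1 * ge 𝒜 n).map (pr 𝒜 (1 + n)) := by rw [h n hn, add_comm]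
      _ ≤ _ := map_pr_mul 𝒜 1 n
  · rw [add_comm]; exact SetLike.mul_mem_graded hx hy
  · refine iSup₂_le fun m hm => ?_
    obtain ⟨k, rfl⟩ : ∃ k, m = k + 1 := ⟨m - 1, by omega⟩
    rw [h k (by omega)]
    exact mul_le_mul' (le_ge 𝒜 le_rfl) (le_ge 𝒜 (by omega))
  · rw [add_comm n 1]; exact ge_mul 𝒜 1 n

theorem pow_iff (n₀ : ℕ) (hn₀ : 1 ≤ n₀) :
    (∀ n : ℕ, n₀ ≤ n → ge 𝒜 n = ge 𝒜 1 ^ n) ↔ (∀ n : ℕ, n₀ ≤ n → 𝒜 n = 𝒜 1 ^ n) := by
  refine ⟨fun h n hn => le_antisymm ?_ (pow_le_graded 𝒜 n),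
    fun h n hn => le_antisymm ?_ (pow_le_ge 𝒜 n)⟩
  · calc 𝒜 n = (ge 𝒜 n).map (pr 𝒜 n) := (eq_map_pr_ge 𝒜 _).symm
      _ = (ge 𝒜 1 ^ n).map (pr 𝒜 n) := by rw [h n hn]
      _ ≤ _ := map_pr_pow 𝒜 n
  · refine iSup₂_le fun m hm => ?_
    obtain ⟨k, rfl⟩ : ∃ k, n = k + 1 := ⟨n - 1, by omega⟩
    obtain ⟨l, rfl⟩ : ∃ l, m = k + (l + 1) := ⟨m - k - 1, by omega⟩
    rw [h _ (by omega), pow_add (𝒜 1), pow_succ (ge 𝒜 1)]
    exact mul_le_mul' (pow_le_pow_left' (le_ge 𝒜 le_rfl) k)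
      ((pow_le_graded 𝒜 _).trans (le_ge 𝒜 (by omega)))

end SweepSix.Natural

end
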